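import Mathlib.GroupTheory.Sylow
import Mathlib.GroupTheory.Index
import Mathlib.Tactic

/-!
# Central involutions outside the subgroup generated by the squares of their centralisers

`Bad x`: `x` is not in the subgroup generated by the squares of the elements commuting with `x`.
`NoBadTriple F`: some 2-subgroup of `F` commutes with no three pairwise commuting, distinct, bad
involutions.  Both notions pass along isomorphisms.
-/

set_option autoImplicit false

namespace CfsgLib.TwoCentralDirect

variable {G H : Type*} [Group G] [Group H]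

/-- The subgroup generated by the squares of the elements commuting with `x`. -/
def sqCent (x : G) : Subgroup G := Subgroup.closure {y | ∃ z, Commute z x ∧ z * z = y}

/-- `x` is not in the subgroup generated by the squares of the elements commuting with it. -/
def Bad (x : G) : Prop := x ∉ sqCent x

theorem sq_mem_sqCent {x z : G} (h : Commute z x) : z * z ∈ sqCent x :=
  Subgroup.subset_closure ⟨z, h, rfl⟩

theorem not_bad_of_mem {x : G} (h : x ∈ sqCent x) : ¬ Bad x := fun hb => hb h

theorem not_bad_of_sq {x y : G} (h : y * y = x) : ¬ Bad x := by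
  subst h
  exact not_bad_of_mem (sq_mem_sqCent ((Commute.refl y).mul_right (Commute.refl y)))

theorem not_bad_one : ¬ Bad (1 : G) := fun h => h (one_mem _)

theorem sqCent_map_le (f : G →* H) (x : G) : (sqCent x).map f ≤ sqCent (f x) := by
  rw [sqCent, MonoidHom.map_closure, Subgroup.closure_le]
  rintro _ ⟨_, ⟨z, hz, rfl⟩, rfl⟩
  rw [map_mul]
  exact sq_mem_sqCent (hz.map f)

theorem Bad.of_map (f : G →* H) {x : G} (h : Bad (f x)) : Bad x :=
  fun hx => h (sqCent_map_le f x ⟨x, hx, rfl⟩)

theorem Bad.map_equiv (e : G ≃* H) {x : G} (h : Bad x) : Bad (e x) :=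
  Bad.of_map e.symm.toMonoidHom (by simpa using h)

theorem Bad.conj {x : G} (h : Bad x) (g : G) : Bad (g * x * g⁻¹) := by
  simpa using h.map_equiv (MulAut.conj g)

theorem Bad.subtype {K : Subgroup G} {x : K} (h : Bad (x : G)) : Bad x :=
  Bad.of_map K.subtype h

/-- Some 2-subgroup commutes with no three commuting distinct bad involutions. -/
def NoBadTriple (F : Type*) [Group F] : Prop :=
  ∃ T : Subgroup F, IsPGroup 2 T ∧ ∀ a b c : F,
    (∀ s ∈ T, Commute s a) → (∀ s ∈ T, Commute s b) → (∀ s ∈ T, Commute s c) →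
    a * a = 1 → b * b = 1 → c * c = 1 → Commute a b → Commute a c → Commute b c →
    a ≠ b → a ≠ c → b ≠ c → Bad a → Bad b → Bad c → False

theorem noBadTriple_of_forall {F : Type*} [Group F] (T : Subgroup F) (hT : IsPGroup 2 T)
    (h : ∀ a : F, (∀ s ∈ T, Commute s a) → a * a = 1 → ¬ Bad a) : NoBadTriple F :=
  ⟨T, hT, fun a _ _ ha _ _ ha2 _ _ _ _ _ _ _ _ hb _ _ => h a ha ha2 hb⟩

theorem noBadTriple_of_not_bad {F : Type*} [Group F] (h : ∀ a : F, a * a = 1 → ¬ Bad a) :
    NoBadTriple F :=
  noBadTriple_of_forall ⊥ IsPGroup.of_bot fun a _ ha => h a ha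

theorem NoBadTriple.congr (e : G ≃* H) (h : NoBadTriple G) : NoBadTriple H := by
  obtain ⟨T, hT, hno⟩ := h
  refine ⟨T.map e.toMonoidHom, hT.map _, fun a b c ha hb hc ha2 hb2 hc2 hab hac hbc n1 n2 n3
    ba bb bc => ?_⟩
  have key : ∀ x : H, (∀ s ∈ T.map e.toMonoidHom, Commute s x) → ∀ s ∈ T, Commute s (e.symm x) := by
    intro x hx s hs
    have := (hx (e s) ⟨s, hs, rfl⟩).map e.symm
    simpa using this
  refine hno _ _ _ (key a ha) (key b hb) (key c hc) ?_ ?_ ?_ (hab.map e.symm) (hac.map e.symm)
    (hbc.map e.symm) (e.symm.injective.ne n1) (e.symm.injective.ne n2) (e.symm.injective.ne n3)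
    (ba.map_equiv e.symm) (bb.map_equiv e.symm) (bc.map_equiv e.symm)
  all_goals rw [← map_mul]; simp [ha2, hb2, hc2]

end CfsgLib.TwoCentralDirect
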