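import Cfsg.Agent.TwoCentralDirect.Bad
import Mathlib.LinearAlgebra.Matrix.GeneralLinearGroup.Defs
import Mathlib.LinearAlgebra.Matrix.Block
import Mathlib.FieldTheory.Finite.Basic

/-!
# Quaternion blocks in classical groups

`blockMat e A` has the `2 × 2` blocks `A p` on the pairs and fixes the other coordinates.  A matrix
commuting up to scalars with the blocks `R`, `Y` (anticommuting square roots of `-1`) is scalar on each
pair, so an involution of a projective classical group commuting with them is a product of their squares.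
-/

set_option autoImplicit false
set_option linter.unusedSectionVars false
set_option linter.unusedSimpArgs false

namespace CfsgLib.TwoCentralDirect

open Matrix

variable {F : Type*} [Field F]

/-- The rotation. -/
def rotMat (F : Type*) [Field F] : Matrix (Fin 2) (Fin 2) F := !![0, 1; -1, 0]

/-- The element anticommuting with the rotation. -/
def antMat (a b : F) : Matrix (Fin 2) (Fin 2) F := !![a, b; b, -a]

theorem exists_sq_add_sq_neg_one (F : Type*) [Field F] [Fintype F] (h2 : (2 : F) ≠ 0) :
    ∃ a b : F, a * a + b * b = -1 := by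
  obtain ⟨a, b, h⟩ := FiniteField.exists_root_sum_quadratic (R := F) (f := Polynomial.X ^ 2)
    (g := Polynomial.X ^ 2 - Polynomial.C (-1)) (Polynomial.degree_X_pow 2)
    (Polynomial.degree_X_pow_sub_C (by decide) _)
    (FiniteField.odd_card_of_char_ne_two fun h => h2 (by
      have : CharP F 2 := h ▸ ringChar.charP F
      exact_mod_cast CharP.cast_eq_zero F 2))
  exact ⟨a, b, by simp at h; linear_combination h⟩

theorem rotMat_mul_self : rotMat F * rotMat F = -1 := by
  ext i j; fin_cases i <;> fin_cases j <;> simp [rotMat]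

theorem antMat_mul_self {a b : F} (h : a * a + b * b = -1) : antMat a b * antMat a b = -1 := by
  ext i j; fin_cases i <;> fin_cases j <;>
    simp [antMat] <;> first | linear_combination h | ring

theorem antMat_mul_rotMat (a b : F) : antMat a b * rotMat F = -(rotMat F * antMat a b) := by
  ext i j; fin_cases i <;> fin_cases j <;> simp [rotMat, antMat]

theorem det_rotMat : (rotMat F).det = 1 := by simp [rotMat, det_fin_two]

theorem det_antMat {a b : F} (h : a * a + b * b = -1) : (antMat a b).det = 1 := by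
  simp [antMat, det_fin_two]; linear_combination -h

/-- The elements `± 1, ± R, ± Y, ± RY`. -/
def IsQuat (a b : F) (x : Matrix (Fin 2) (Fin 2) F) : Prop :=
  ∃ u : F, (u = 1 ∨ u = -1) ∧ (x = u • 1 ∨ x = u • rotMat F ∨ x = u • antMat a b ∨
    x = u • (rotMat F * antMat a b))

theorem IsQuat.neg {a b : F} {x : Matrix (Fin 2) (Fin 2) F} (h : IsQuat a b x) :
    IsQuat a b (-x) := by
  obtain ⟨u, hu, rfl | rfl | rfl | rfl⟩ := h <;>
    refine ⟨-u, by rcases hu with rfl | rfl <;> simp, ?_⟩ <;> simp [neg_smul]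

theorem IsQuat.mul_rot {a b : F} {x : Matrix (Fin 2) (Fin 2) F}
    (h : IsQuat a b x) : IsQuat a b (x * rotMat F) := by
  obtain ⟨u, hu, rfl | rfl | rfl | rfl⟩ := h <;> rw [Matrix.smul_mul]
  · exact ⟨u, hu, by simp⟩
  · refine ⟨-u, by rcases hu with rfl | rfl <;> simp, Or.inl ?_⟩
    rw [rotMat_mul_self, smul_neg, neg_smul]
  · refine ⟨-u, by rcases hu with rfl | rfl <;> simp, Or.inr (Or.inr (Or.inr ?_))⟩
    rw [antMat_mul_rotMat, smul_neg, neg_smul]
  · refine ⟨u, hu, Or.inr (Or.inr (Or.inl ?_))⟩
    rw [mul_assoc, antMat_mul_rotMat, mul_neg, ← mul_assoc, rotMat_mul_self, neg_mul, one_mul,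
      neg_neg]

theorem IsQuat.mul_ant {a b : F} (hab : a * a + b * b = -1) {x : Matrix (Fin 2) (Fin 2) F}
    (h : IsQuat a b x) : IsQuat a b (x * antMat a b) := by
  obtain ⟨u, hu, rfl | rfl | rfl | rfl⟩ := h <;> rw [Matrix.smul_mul]
  · exact ⟨u, hu, by simp⟩
  · exact ⟨u, hu, Or.inr (Or.inr (Or.inr rfl))⟩
  · refine ⟨-u, by rcases hu with rfl | rfl <;> simp, Or.inl ?_⟩
    rw [antMat_mul_self hab, smul_neg, neg_smul]
  · refine ⟨-u, by rcases hu with rfl | rfl <;> simp, Or.inr (Or.inl ?_)⟩
    rw [mul_assoc, antMat_mul_self hab, mul_neg, mul_one, smul_neg, neg_smul]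

theorem IsQuat.mul {a b : F} (hab : a * a + b * b = -1) {x y : Matrix (Fin 2) (Fin 2) F}
    (hx : IsQuat a b x) (hy : IsQuat a b y) : IsQuat a b (x * y) := by
  obtain ⟨u, hu, rfl | rfl | rfl | rfl⟩ := hy <;> rw [Matrix.mul_smul] <;>
    rcases hu with rfl | rfl <;> simp only [one_smul, neg_one_smul, mul_one, ← mul_assoc]
  exacts [hx, hx.neg, hx.mul_rot, hx.mul_rot.neg, hx.mul_ant hab, (hx.mul_ant hab).neg,
    hx.mul_rot.mul_ant hab, (hx.mul_rot.mul_ant hab).neg]

theorem IsQuat.pow_four {a b : F} (hab : a * a + b * b = -1) {x : Matrix (Fin 2) (Fin 2) F}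
    (h : IsQuat a b x) : x ^ 4 = 1 := by
  have key : ∀ z : Matrix (Fin 2) (Fin 2) F, (z * z = 1 ∨ z * z = -1) → z ^ 4 = 1 := fun z hz => by
    rw [show (4 : ℕ) = 2 * 2 from rfl, pow_mul, pow_two z]
    rcases hz with e | e <;> simp [e]
  refine key x ?_
  obtain ⟨u, hu, e⟩ := h
  have huu : u * u = 1 := by rcases hu with rfl | rfl <;> simp
  rcases e with rfl | rfl | rfl | rfl <;>
    rw [Matrix.smul_mul, Matrix.mul_smul, smul_smul, huu, one_smul]
  · exact Or.inl (one_mul 1)
  · exact Or.inr rotMat_mul_self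
  · exact Or.inr (antMat_mul_self hab)
  · refine Or.inr ?_
    rw [mul_assoc, ← mul_assoc (antMat a b), antMat_mul_rotMat, neg_mul, mul_assoc,
      antMat_mul_self hab]
    simp [rotMat_mul_self]

variable {m : ℕ} {ρ ι : Type*} [Fintype ρ] [DecidableEq ρ] [Fintype ι] [DecidableEq ι]

/-- Blocks on the pairs, the identity elsewhere. -/
def blockMat (e : (Fin 2 × Fin m) ⊕ ρ ≃ ι) (A : Fin m → Matrix (Fin 2) (Fin 2) F) : Matrix ι ι F :=
  reindex e e (fromBlocks (blockDiagonal A) 0 0 1)

variable (e : (Fin 2 × Fin m) ⊕ ρ ≃ ι)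

theorem blockMat_mul (A B : Fin m → Matrix (Fin 2) (Fin 2) F) :
    blockMat e A * blockMat e B = blockMat e (A * B) := by
  simp only [blockMat, reindex_apply, submatrix_mul_equiv, fromBlocks_multiply, Matrix.mul_zero,
    Matrix.zero_mul, add_zero, zero_add, Matrix.mul_one, ← blockDiagonal_mul]
  rfl

theorem blockMat_one : blockMat e (1 : Fin m → Matrix (Fin 2) (Fin 2) F) = 1 := by
  simp [blockMat]

theorem blockMat_pow (A : Fin m → Matrix (Fin 2) (Fin 2) F) (k : ℕ) :
    blockMat e A ^ k = blockMat e (A ^ k) := by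
  induction k with
  | zero => simp [blockMat_one]
  | succ k ih => rw [pow_succ, pow_succ, ih, blockMat_mul]

theorem det_blockMat (A : Fin m → Matrix (Fin 2) (Fin 2) F) :
    (blockMat e A).det = ∏ p, (A p).det := by
  simp [blockMat, det_blockDiagonal]

/-- A block on one pair. -/
def single2 (p : Fin m) (X : Matrix (Fin 2) (Fin 2) F) : Fin m → Matrix (Fin 2) (Fin 2) F :=
  Function.update 1 p X

theorem blockMat_single_inl (p : Fin m) (X : Matrix (Fin 2) (Fin 2) F) (i j : Fin 2) (q q' : Fin m) :
    blockMat e (single2 p X) (e (.inl (i, q))) (e (.inl (j, q'))) =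
      if q = q' then (if q = p then X i j else (if i = j then 1 else 0)) else 0 := by
  simp only [blockMat, reindex_apply, submatrix_apply, Equiv.symm_apply_apply, fromBlocks_apply₁₁,
    blockDiagonal_apply, single2, Function.update_apply]
  split_ifs <;> simp_all [one_apply]

theorem mulVec_blockMat_inl (A : Fin m → Matrix (Fin 2) (Fin 2) F) (v : ι → F) (i : Fin 2)
    (q : Fin m) :
    (blockMat e A *ᵥ v) (e (.inl (i, q))) =
      A q i 0 * v (e (.inl (0, q))) + A q i 1 * v (e (.inl (1, q))) := by
  simp only [mulVec, dotProduct, ← e.sum_comp, blockMat, reindex_apply, submatrix_apply,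
    Equiv.symm_apply_apply, Fintype.sum_sum_type, fromBlocks_apply₁₁, fromBlocks_apply₁₂,
    Matrix.zero_apply, zero_mul, Finset.sum_const_zero, add_zero, Fintype.sum_prod_type,
    Fin.sum_univ_two, blockDiagonal_apply]
  simp

theorem mulVec_blockMat_inr (A : Fin m → Matrix (Fin 2) (Fin 2) F) (v : ι → F) (r : ρ) :
    (blockMat e A *ᵥ v) (e (.inr r)) = v (e (.inr r)) := by
  simp only [mulVec, dotProduct, ← e.sum_comp, blockMat, reindex_apply, submatrix_apply,
    Equiv.symm_apply_apply, Fintype.sum_sum_type, fromBlocks_apply₂₁, fromBlocks_apply₂₂,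
    Matrix.zero_apply, zero_mul, Finset.sum_const_zero, zero_add]
  simp [one_apply]

theorem single_rot_apply (p : Fin m) (v : ι → F) (k : (Fin 2 × Fin m) ⊕ ρ) :
    (blockMat e (single2 p (rotMat F)) *ᵥ v) (e k) =
      if k = .inl (0, p) then v (e (.inl (1, p)))
      else if k = .inl (1, p) then -v (e (.inl (0, p))) else v (e k) := by
  rcases k with ⟨i, q⟩ | r
  · rw [mulVec_blockMat_inl]
    by_cases hq : q = p
    · subst hq; fin_cases i <;> simp [single2, rotMat]
    · fin_cases i <;> simp [single2, Function.update_apply, hq, one_apply]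
  · rw [mulVec_blockMat_inr]; simp

/-- A projective centralizer of a rotation centralizes it. -/
theorem scalar_eq_one {g : Matrix ι ι F} (hdim : 3 ≤ Fintype.card ι)
    (hg : IsUnit g.det) (p : Fin m) {r : F}
    (h : g * blockMat e (single2 p (rotMat F)) = r • (blockMat e (single2 p (rotMat F)) * g)) :
    r = 1 := by
  set X := blockMat e (single2 p (rotMat F)) with hX
  have hdet : X.det = 1 := by
    rw [hX, det_blockMat, Finset.prod_eq_one fun q _ => ?_]
    by_cases hq : q = p
    · subst hq; simp [single2, det_rotMat]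
    · simp [single2, hq]
  have hrn : r ^ Fintype.card ι = 1 := by
    have h' := congrArg det h
    rw [det_smul, det_mul, det_mul, hdet, mul_one, one_mul] at h'
    exact mul_right_cancel₀ hg.ne_zero (by rw [one_mul]; exact h'.symm)
  have hX4 : X ^ 4 = 1 := by
    rw [hX, blockMat_pow, ← blockMat_one e]
    congr 1
    funext q
    by_cases hq : q = p
    · subst hq
      rw [Pi.pow_apply, single2, Function.update_self, Pi.one_apply,
        show (4 : ℕ) = 2 * 2 from rfl, pow_mul, pow_two (rotMat F), rotMat_mul_self]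
      simp
    · simp [single2, hq]
  have hr4 : r ^ 4 = 1 := by
    have hk : ∀ k : ℕ, g * X ^ k = r ^ k • (X ^ k * g) := by
      intro k
      induction k with
      | zero => simp
      | succ k ih =>
        rw [pow_succ, ← mul_assoc, ih, Matrix.smul_mul, mul_assoc, h, Matrix.mul_smul, smul_smul,
          ← pow_succ, mul_assoc]
    have h4 := congrArg det (hk 4)
    have h4' := hk 4
    rw [hX4, mul_one, one_mul] at h4'
    obtain ⟨i, j, hij⟩ : ∃ i j, g i j ≠ 0 := by
      by_contra hno
      push Not at hno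
      exact hg.ne_zero (det_eq_zero_of_row_eq_zero (Classical.choice
        (Fintype.card_pos_iff.1 (by omega))) fun j => hno _ j)
    have := congrFun (congrFun h4' i) j
    rw [Matrix.smul_apply, smul_eq_mul] at this
    exact (mul_right_cancel₀ hij (by rw [one_mul]; exact this)).symm
  by_contra hr1
  have hr0 : r ≠ 0 := fun h0 => by simp [h0] at hr4
  have hout : ∀ k : (Fin 2 × Fin m) ⊕ ρ, k ≠ .inl (0, p) → k ≠ .inl (1, p) → ∀ l,
      (l ≠ .inl (0, p) → l ≠ .inl (1, p) → g (e l) (e k) = 0) ∧
      r * g (e (.inl (1, p))) (e k) = g (e (.inl (0, p))) (e k) ∧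
      g (e (.inl (1, p))) (e k) = -(r * g (e (.inl (0, p))) (e k)) := by
    intro k hk0 hk1 l
    have hfix : X *ᵥ Pi.single (e k) 1 = Pi.single (e k) 1 := by
      funext x
      obtain ⟨x, rfl⟩ := e.surjective x
      rw [hX, single_rot_apply]
      split_ifs with a b
      · subst a; simp [Ne.symm hk0, Ne.symm hk1]
      · subst b; simp [Ne.symm hk0, Ne.symm hk1]
      · rfl
    have hw : r • (X *ᵥ g.col (e k)) = g.col (e k) := by
      rw [← mulVec_single_one g (e k), mulVec_mulVec, ← smul_mulVec, ← h, ← mulVec_mulVec, hfix]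
    have hx : ∀ x, r * (X *ᵥ g.col (e k)) (e x) = g (e x) (e k) := fun x => congrFun hw (e x)
    refine ⟨fun a b => ?_, ?_, ?_⟩
    · have := hx l
      rw [hX, single_rot_apply, if_neg a, if_neg b, Matrix.col_apply] at this
      by_contra h0
      exact hr1 (mul_right_cancel₀ h0 (by rw [one_mul]; exact this))
    · simpa [hX, single_rot_apply, Matrix.col_apply] using hx (.inl (0, p))
    · simpa [hX, single_rot_apply, Matrix.col_apply, eq_comm] using hx (.inl (1, p))
  by_cases hcard : Fintype.card ι = 3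
  · rw [hcard] at hrn
    exact hr1 (by rw [← hr4, pow_succ, hrn, one_mul])
  let s : Finset ((Fin 2 × Fin m) ⊕ ρ) := {.inl (0, p), .inl (1, p)}
  obtain ⟨k, hk, l, hl, hkl⟩ := Finset.one_lt_card.1 (show 1 < sᶜ.card by
    have hs : s.card ≤ 2 := Finset.card_le_two
    rw [Finset.card_compl, Fintype.card_congr e]
    omega)
  simp only [s, Finset.mem_compl, Finset.mem_insert, Finset.mem_singleton, not_or] at hk hl
  set a := g (e (.inl (1, p))) (e k)
  set b := g (e (.inl (1, p))) (e l)
  -- `b · col k - a · col l` vanishes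
  have hz : g *ᵥ (b • Pi.single (e k) 1 - a • Pi.single (e l) 1) = 0 := by
    rw [mulVec_sub, mulVec_smul, mulVec_smul, mulVec_single_one, mulVec_single_one]
    funext x
    obtain ⟨x, rfl⟩ := e.surjective x
    obtain ⟨k1, k2, -⟩ := hout k hk.1 hk.2 x
    obtain ⟨l1, l2, -⟩ := hout l hl.1 hl.2 x
    simp only [Pi.sub_apply, Pi.smul_apply, smul_eq_mul, Pi.zero_apply, Matrix.col_apply]
    by_cases h0 : x = .inl (0, p)
    · subst h0; rw [← k2, ← l2]; ring
    by_cases h1 : x = .inl (1, p)
    · subst h1; ring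
    · rw [k1 h0 h1, l1 h0 h1]; ring
  have hinj := Matrix.mulVec_injective_iff_isUnit.2 ((Matrix.isUnit_iff_isUnit_det g).2 hg)
  have h0 := hinj (hz.trans (mulVec_zero g).symm)
  have hb : b = 0 := by simpa [Pi.single_apply, hkl, Ne.symm hkl] using congrFun h0 (e k)
  have hcol : g *ᵥ Pi.single (e l) 1 = 0 := by
    rw [mulVec_single_one]
    funext x
    obtain ⟨x, rfl⟩ := e.surjective x
    obtain ⟨l1, l2, -⟩ := hout l hl.1 hl.2 x
    by_cases h0 : x = .inl (0, p)
    · subst h0; simpa [b, hb, Matrix.col_apply] using l2.symm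
    by_cases h1 : x = .inl (1, p)
    · subst h1; exact hb
    · exact l1 h0 h1
  simpa using congrFun (hinj (hcol.trans (mulVec_zero g).symm)) (e l)

/-- Commuting with the rotation on a pair: nothing between the pair and the rest. -/
theorem out_zero {g : Matrix ι ι F} (h2 : (2 : F) ≠ 0) (p : Fin m)
    (hR : Commute g (blockMat e (single2 p (rotMat F)))) :
    ∀ k, k ≠ .inl (0, p) → k ≠ .inl (1, p) →
      (g (e k) (e (.inl (0, p))) = 0 ∧ g (e k) (e (.inl (1, p))) = 0) ∧
      (g (e (.inl (0, p))) (e k) = 0 ∧ g (e (.inl (1, p))) (e k) = 0) := by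
  have hcol : ∀ X : Matrix (Fin 2) (Fin 2) F, Commute g (blockMat e (single2 p X)) → ∀ c x,
      (blockMat e (single2 p X) *ᵥ g.col c) x = (g *ᵥ (blockMat e (single2 p X)).col c) x :=
    fun X hX c x => by
      rw [← mulVec_single_one g c, mulVec_mulVec, ← hX.eq, ← mulVec_mulVec, mulVec_single_one]
  have hsum : ∀ (X : Matrix (Fin 2) (Fin 2) F) (x : ι) (j : Fin 2),
      (g *ᵥ (blockMat e (single2 p X)).col (e (.inl (j, p)))) x =
        g x (e (.inl (0, p))) * X 0 j + g x (e (.inl (1, p))) * X 1 j := by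
    intro X x j
    simp only [mulVec, dotProduct, ← e.sum_comp, Fintype.sum_sum_type, Matrix.col_apply,
      Fintype.sum_prod_type, Fin.sum_univ_two, blockMat_single_inl]
    simp [blockMat, blockDiagonal_apply, single2]
  have hout : ∀ k, k ≠ .inl (0, p) → k ≠ .inl (1, p) →
      (g (e k) (e (.inl (0, p))) = 0 ∧ g (e k) (e (.inl (1, p))) = 0) ∧
      (g (e (.inl (0, p))) (e k) = 0 ∧ g (e (.inl (1, p))) (e k) = 0) := by
    intro k hk0 hk1
    have h0 := hcol _ hR (e (.inl (0, p))) (e k)
    have h1 := hcol _ hR (e (.inl (1, p))) (e k)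
    rw [single_rot_apply, if_neg hk0, if_neg hk1, hsum] at h0 h1
    simp [rotMat] at h0 h1
    have hfix : (blockMat e (single2 p (rotMat F))).col (e k) = Pi.single (e k) 1 := by
      rw [← mulVec_single_one]
      funext x
      obtain ⟨x, rfl⟩ := e.surjective x
      rw [single_rot_apply]
      split_ifs with u v
      · subst u; simp [Ne.symm hk0, Ne.symm hk1]
      · subst v; simp [Ne.symm hk0, Ne.symm hk1]
      · rfl
    have c0 := hcol _ hR (e k) (e (.inl (0, p)))
    have c1 := hcol _ hR (e k) (e (.inl (1, p)))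
    rw [single_rot_apply, hfix, mulVec_single_one] at c0 c1
    simp at c0 c1
    refine ⟨⟨mul_left_cancel₀ h2 ?_, mul_left_cancel₀ h2 ?_⟩,
      mul_left_cancel₀ h2 ?_, mul_left_cancel₀ h2 ?_⟩
    · rw [mul_zero]; linear_combination h0 - h1
    · rw [mul_zero]; linear_combination h0 + h1
    · rw [mul_zero]; linear_combination -c0 - c1
    · rw [mul_zero]; linear_combination c0 - c1
  exact hout

/-- A projective centralizer of `Y` commuting with the rotation centralizes it. -/
theorem scalar_ant_eq_one {g : Matrix ι ι F} (h2 : (2 : F) ≠ 0) (hdim : 3 ≤ Fintype.card ι)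
    (hg : IsUnit g.det) (p : Fin m) (hR : Commute g (blockMat e (single2 p (rotMat F))))
    {X : Matrix (Fin 2) (Fin 2) F} {r : F}
    (h : g * blockMat e (single2 p X) = r • (blockMat e (single2 p X) * g)) : r = 1 := by
  obtain ⟨k, hk⟩ := Finset.card_pos.1 (show
      0 < ({.inl (0, p), .inl (1, p)} : Finset ((Fin 2 × Fin m) ⊕ ρ))ᶜ.card by
    rw [Finset.card_compl, ← Fintype.card_congr e.symm]
    exact Nat.sub_pos_of_lt (lt_of_le_of_lt Finset.card_le_two (by omega)))
  simp only [Finset.mem_compl, Finset.mem_insert, Finset.mem_singleton, not_or] at hk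
  have hfix : blockMat e (single2 p X) *ᵥ Pi.single (e k) 1 = Pi.single (e k) 1 := by
    funext x
    obtain ⟨x, rfl⟩ := e.surjective x
    rcases x with ⟨i, q⟩ | s
    · rw [mulVec_blockMat_inl]
      by_cases hq : q = p
      · subst hq
        fin_cases i <;> simp [Ne.symm hk.1, Ne.symm hk.2, Pi.single_apply]
      · fin_cases i <;> simp [single2, hq, Pi.single_apply]
    · rw [mulVec_blockMat_inr]
  by_contra hr
  obtain ⟨-, u0, u1⟩ := out_zero e h2 p hR k hk.1 hk.2
  have hw : r • (blockMat e (single2 p X) *ᵥ g.col (e k)) = g.col (e k) := by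
    rw [← mulVec_single_one g (e k), mulVec_mulVec, ← smul_mulVec, ← h, ← mulVec_mulVec, hfix]
  have hzero : g *ᵥ Pi.single (e k) 1 = 0 := by
    rw [mulVec_single_one]
    funext x
    obtain ⟨x, rfl⟩ := e.surjective x
    rcases x with ⟨i, q⟩ | s
    · by_cases hq : q = p
      · subst hq; fin_cases i <;> simp [u0, u1]
      · have := congrFun hw (e (.inl (i, q)))
        rw [Pi.smul_apply, smul_eq_mul, mulVec_blockMat_inl] at this
        by_contra h0
        refine hr (mul_right_cancel₀ h0 ?_)
        rw [one_mul]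
        fin_cases i <;> simpa [single2, hq] using this
    · have := congrFun hw (e (.inr s))
      rw [Pi.smul_apply, smul_eq_mul, mulVec_blockMat_inr] at this
      by_contra h0
      exact hr (mul_right_cancel₀ h0 (by rw [one_mul]; exact this))
  have hinj := Matrix.mulVec_injective_iff_isUnit.2 ((Matrix.isUnit_iff_isUnit_det g).2 hg)
  simpa using congrFun (hinj (hzero.trans (mulVec_zero g).symm)) (e k)

/-- Commuting with both generators on a pair: scalar on it, nothing between it and the rest. -/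
theorem of_commute_pair {g : Matrix ι ι F} (h2 : (2 : F) ≠ 0) {a b : F} (hab : a * a + b * b = -1)
    (p : Fin m) (hR : Commute g (blockMat e (single2 p (rotMat F))))
    (hY : Commute g (blockMat e (single2 p (antMat a b)))) :
    (g (e (.inl (0, p))) (e (.inl (1, p))) = 0 ∧ g (e (.inl (1, p))) (e (.inl (0, p))) = 0 ∧
      g (e (.inl (0, p))) (e (.inl (0, p))) = g (e (.inl (1, p))) (e (.inl (1, p)))) ∧
    ∀ k, k ≠ .inl (0, p) → k ≠ .inl (1, p) → ∀ i,
      g (e k) (e (.inl (i, p))) = 0 ∧ g (e (.inl (i, p))) (e k) = 0 := by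
  have hcol : ∀ X : Matrix (Fin 2) (Fin 2) F, Commute g (blockMat e (single2 p X)) → ∀ c x,
      (blockMat e (single2 p X) *ᵥ g.col c) x = (g *ᵥ (blockMat e (single2 p X)).col c) x :=
    fun X hX c x => by
      rw [← mulVec_single_one g c, mulVec_mulVec, ← hX.eq, ← mulVec_mulVec, mulVec_single_one]
  have hsum : ∀ (X : Matrix (Fin 2) (Fin 2) F) (x : ι) (j : Fin 2),
      (g *ᵥ (blockMat e (single2 p X)).col (e (.inl (j, p)))) x =
        g x (e (.inl (0, p))) * X 0 j + g x (e (.inl (1, p))) * X 1 j := by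
    intro X x j
    simp only [mulVec, dotProduct, ← e.sum_comp, Fintype.sum_sum_type, Matrix.col_apply,
      Fintype.sum_prod_type, Fin.sum_univ_two, blockMat_single_inl]
    simp [blockMat, blockDiagonal_apply, single2]
  have hout := out_zero e h2 p hR
  refine ⟨?_, fun k a b i => ?_⟩
  · have r0 := hcol _ hR (e (.inl (0, p))) (e (.inl (0, p)))
    have r1 := hcol _ hR (e (.inl (0, p))) (e (.inl (1, p)))
    have y0 := hcol _ hY (e (.inl (0, p))) (e (.inl (0, p)))
    have y1 := hcol _ hY (e (.inl (0, p))) (e (.inl (1, p)))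
    rw [single_rot_apply, hsum] at r0 r1
    rw [mulVec_blockMat_inl, hsum] at y0 y1
    simp [rotMat, single2, antMat, Matrix.col_apply] at r0 r1 y0 y1
    set u := g (e (.inl (0, p))) (e (.inl (1, p)))
    set v := g (e (.inl (1, p))) (e (.inl (0, p)))
    set x := g (e (.inl (0, p))) (e (.inl (0, p)))
    set w := g (e (.inl (1, p))) (e (.inl (1, p)))
    have hxw : x = w := r1
    have hbu : 2 * (b * v) = 0 := by linear_combination y0 + b * r0
    have hav : 2 * (a * v) = 0 := by linear_combination -y1 + b * hxw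
    have hv : v = 0 := by
      refine mul_left_cancel₀ h2 ?_
      rw [mul_zero]
      linear_combination -a * hav - b * hbu + 2 * v * hab
    exact ⟨by linear_combination r0 - hv, hv, hxw⟩
  · obtain ⟨⟨u0, u1⟩, v0, v1⟩ := hout k a b
    fin_cases i
    · exact ⟨u0, v0⟩
    · exact ⟨u1, v1⟩

/-- Commuting with the generators on all pairs: scalar blocks. -/
theorem eq_scalarBlocks [Subsingleton ρ] {g : Matrix ι ι F} (h2 : (2 : F) ≠ 0) {a b : F}
    (hab : a * a + b * b = -1) (hR : ∀ p, Commute g (blockMat e (single2 p (rotMat F))))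
    (hY : ∀ p, Commute g (blockMat e (single2 p (antMat a b)))) :
    ∃ (c : Fin m → F) (d : F), g = reindex e e
      (fromBlocks (blockDiagonal fun p => c p • (1 : Matrix (Fin 2) (Fin 2) F)) 0 0 (d • 1)) := by
  classical
  refine ⟨fun p => g (e (.inl (0, p))) (e (.inl (0, p))),
    if h : Nonempty ρ then g (e (.inr h.some)) (e (.inr h.some)) else 1, ?_⟩
  ext x y
  obtain ⟨x, rfl⟩ := e.surjective x
  obtain ⟨y, rfl⟩ := e.surjective y
  simp only [reindex_apply, submatrix_apply, Equiv.symm_apply_apply]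
  rcases y with ⟨j, q⟩ | s
  · obtain ⟨⟨u, v, w⟩, ho⟩ := of_commute_pair e h2 hab q (hR q) (hY q)
    rcases x with ⟨i, p⟩ | r
    · by_cases hpq : p = q
      · subst hpq
        fin_cases i <;> fin_cases j <;> simp [u, v, w]
      · rw [(ho (.inl (i, p)) (by simp [hpq]) (by simp [hpq]) j).1]
        simp [blockDiagonal_apply, hpq]
    · rw [(ho (.inr r) (by simp) (by simp) j).1]; simp
  · rcases x with ⟨i, p⟩ | r
    · obtain ⟨-, ho⟩ := of_commute_pair e h2 hab p (hR p) (hY p)
      rw [(ho (.inr s) (by simp) (by simp) i).2]; simp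
    · have hne : Nonempty ρ := ⟨r⟩
      rw [Subsingleton.elim s r, Subsingleton.elim r hne.some]
      simp [hne]

/-- The projective group data. -/
structure ProjData (H : Type*) [Group H] (P : Type*) [Group P] (ι F : Type*) [Fintype ι]
    [DecidableEq ι] [Field F] where
  toMat : H →* Matrix ι ι F
  inj : Function.Injective toMat
  proj : H →* P
  surj : Function.Surjective proj
  scalar : ∀ x y, proj x = proj y → ∃ r : F, toMat x = r • toMat y
  of_scalar : ∀ x y (r : F), toMat x = r • toMat y → proj x = proj y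

/-- An involution commuting with quaternion blocks is not bad. -/
theorem noBadTriple_of_blocks [Subsingleton ρ] {H P : Type*} [Group H] [Group P] [Finite P]
    (D : ProjData H P ι F) (h2 : (2 : F) ≠ 0) (hdim : 3 ≤ Fintype.card ι) {a b : F}
    (hab : a * a + b * b = -1) (xR xY : Fin m → H)
    (hxR : ∀ p, D.toMat (xR p) = blockMat e (single2 p (rotMat F)))
    (hxY : ∀ p, D.toMat (xY p) = blockMat e (single2 p (antMat a b))) : NoBadTriple P := by
  classical
  let K : Subgroup H :=
    Subgroup.closure (Set.range xR ∪ Set.range xY)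
  have hquat : ∀ h ∈ K, ∃ A : Fin m → Matrix (Fin 2) (Fin 2) F,
      (∀ p, IsQuat a b (A p)) ∧ D.toMat h = blockMat e A := by
    intro h hh
    induction hh using Subgroup.closure_induction with
    | mem x hx =>
      rcases hx with ⟨p, rfl⟩ | ⟨p, rfl⟩
      · refine ⟨_, fun q => ?_, hxR p⟩
        by_cases hq : q = p
        · subst hq; exact ⟨1, Or.inl rfl, Or.inr (Or.inl (by simp [single2]))⟩
        · exact ⟨1, Or.inl rfl, Or.inl (by simp [single2, hq])⟩
      · refine ⟨_, fun q => ?_, hxY p⟩
        by_cases hq : q = p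
        · subst hq; exact ⟨1, Or.inl rfl, Or.inr (Or.inr (Or.inl (by simp [single2])))⟩
        · exact ⟨1, Or.inl rfl, Or.inl (by simp [single2, hq])⟩
    | one => exact ⟨1, fun _ => ⟨1, Or.inl rfl, Or.inl (one_smul F 1).symm⟩, by
        rw [map_one, blockMat_one]⟩
    | mul x y _ _ ihx ihy =>
      obtain ⟨A, hA, eA⟩ := ihx
      obtain ⟨B, hB, eB⟩ := ihy
      exact ⟨A * B, fun p => (hA p).mul hab (hB p), by rw [map_mul, eA, eB, blockMat_mul]⟩
    | inv x _ ih =>
      obtain ⟨A, hA, eA⟩ := ih
      have h4 : x ^ 4 = 1 := D.inj (by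
        rw [map_pow, eA, blockMat_pow, map_one, ← blockMat_one e]
        exact congrArg _ (funext fun p => (hA p).pow_four hab))
      have hinv : x⁻¹ = x * x * x := inv_eq_of_mul_eq_one_left (by
        rw [← h4]; simp only [pow_succ, pow_zero, one_mul, mul_assoc])
      exact ⟨A * A * A, fun p => ((hA p).mul hab (hA p)).mul hab (hA p), by
        rw [hinv, map_mul, map_mul, eA, blockMat_mul, blockMat_mul]⟩
  have hK : IsPGroup 2 (K.map D.proj) := by
    rintro ⟨_, h, hh, rfl⟩
    obtain ⟨A, hA, eA⟩ := hquat h hh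
    refine ⟨2, Subtype.ext ?_⟩
    show D.proj h ^ (2 ^ 2) = 1
    rw [← map_pow, show h ^ (2 ^ 2) = 1 from D.inj (by
      rw [map_pow, eA, blockMat_pow, map_one, ← blockMat_one e]
      exact congrArg _ (funext fun p => (hA p).pow_four hab)), map_one]
  refine noBadTriple_of_forall _ hK fun z hz hz2 => ?_
  obtain ⟨h, rfl⟩ := D.surj z
  have hu : IsUnit (D.toMat h).det :=
    (Matrix.isUnit_iff_isUnit_det _).1 ((Group.isUnit h).map D.toMat)
  have hmem : ∀ x ∈ Set.range xR ∪ Set.range xY, D.proj x ∈ K.map D.proj := fun x hx =>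
    ⟨x, Subgroup.subset_closure hx, rfl⟩
  have hscal : ∀ x ∈ K, ∃ r : F, D.toMat h * D.toMat x = r • (D.toMat x * D.toMat h) := by
    intro x hx
    obtain ⟨r, hr⟩ := D.scalar (h * x) (x * h) (by
      rw [map_mul, map_mul]; exact ((hz _ ⟨x, hx, rfl⟩).eq).symm)
    exact ⟨r, by rw [← map_mul, ← map_mul]; exact hr⟩
  have hR : ∀ p, Commute (D.toMat h) (blockMat e (single2 p (rotMat F))) := by
    intro p
    obtain ⟨r, hr⟩ := hscal (xR p) (Subgroup.subset_closure (Or.inl ⟨p, rfl⟩))
    rw [hxR] at hr
    have h1 := scalar_eq_one e hdim hu p hr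
    rw [h1, one_smul] at hr
    exact hr
  have hY : ∀ p, Commute (D.toMat h) (blockMat e (single2 p (antMat a b))) := by
    intro p
    obtain ⟨r, hr⟩ := hscal (xY p) (Subgroup.subset_closure (Or.inr ⟨p, rfl⟩))
    rw [hxY] at hr
    have hrr : r = 1 := scalar_ant_eq_one e h2 hdim hu p (hR p) hr
    rw [hrr, one_smul] at hr
    exact hr
  obtain ⟨c, d, hg⟩ := eq_scalarBlocks e h2 hab hR hY
  obtain ⟨l, hl⟩ := D.scalar (h * h) 1 (by rw [map_mul, map_one]; exact hz2)
  rw [map_mul, map_one, hg] at hl
  simp only [reindex_apply, submatrix_mul_equiv, fromBlocks_multiply, Matrix.mul_zero,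
    Matrix.zero_mul, add_zero, zero_add, ← blockDiagonal_mul] at hl
  have hc : ∀ p, c p * c p = l := fun p => by
    simpa [blockDiagonal_apply] using
      congrFun (congrFun hl (e (.inl (0, p)))) (e (.inl (0, p)))
  have hd : ∀ r : ρ, d * d = l := fun r => by
    simpa using congrFun (congrFun hl (e (.inr r))) (e (.inr r))
  obtain ⟨μ, hμl, hμd⟩ : ∃ μ : F, μ * μ = l ∧ ∀ r : ρ, d = μ := by
    by_cases hne : Nonempty ρ
    · exact ⟨d, hd hne.some, fun _ => rfl⟩
    · obtain ⟨i⟩ : Nonempty ι := Fintype.card_pos_iff.1 (by omega)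
      rcases hi : e.symm i with ⟨-, p⟩ | r
      · exact ⟨c p, hc p, fun r => absurd ⟨r⟩ hne⟩
      · exact absurd ⟨r⟩ hne
  have hprod : ∀ S : Finset (Fin m), ∃ y : H,
      D.toMat y = blockMat e (fun p => if p ∈ S then -1 else 1) ∧
      D.proj y ∈ sqCent (D.proj h) := by
    intro S
    induction S using Finset.induction with
    | empty => exact ⟨1, by rw [map_one, ← blockMat_one e]; exact congrArg _ (funext fun p => by simp),
        by rw [map_one]; exact one_mem _⟩
    | insert p S hp ih =>
      obtain ⟨y, hy, hy'⟩ := ih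
      refine ⟨xR p * xR p * y, ?_, ?_⟩
      · rw [map_mul, map_mul, hxR, blockMat_mul, hy, blockMat_mul]
        congr 1
        funext q
        by_cases hq : q = p
        · subst hq; simp [single2, hp, rotMat_mul_self]
        · simp [single2, hq]
      · rw [map_mul, map_mul]
        exact mul_mem (sq_mem_sqCent (hz _ (hmem _ (Or.inl ⟨p, rfl⟩)))) hy'
  obtain ⟨y, hy, hy'⟩ := hprod (Finset.univ.filter fun p => c p ≠ μ)
  refine not_bad_of_mem ?_
  have hμ0 : μ ≠ 0 := fun h0 => by
    obtain ⟨i⟩ : Nonempty ι := Fintype.card_pos_iff.1 (by omega)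
    have h1 := congrArg Matrix.det hg
    refine hu.ne_zero (h1.trans (det_eq_zero_of_row_eq_zero i fun j => ?_))
    have hz : c = 0 := funext fun p => mul_self_eq_zero.1 (by rw [hc, ← hμl, h0, mul_zero])
    rcases hi : e.symm i with ⟨i', p⟩ | r <;> rcases hj : e.symm j with ⟨j', q⟩ | s <;>
      first
        | (simp [hi, hj, hz, blockDiagonal_apply]; done)
        | (simp [hi, hj, hz, blockDiagonal_apply, hμd r, h0]; done)
  have heq : D.toMat h = μ • D.toMat y := by
    rw [hy, hg]
    ext x z
    obtain ⟨x, rfl⟩ := e.surjective x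
    obtain ⟨z, rfl⟩ := e.surjective z
    simp only [blockMat, reindex_apply, submatrix_apply, Equiv.symm_apply_apply, Matrix.smul_apply]
    rcases x with ⟨i, p⟩ | r <;> rcases z with ⟨j, q⟩ | s
    · by_cases hpq : p = q
      · subst hpq
        rcases mul_self_eq_mul_self_iff.1 ((hc p).trans hμl.symm) with h' | h'
        · simp [h']
        · by_cases hμ : c p = μ
          · simp [hμ]
          · have hμ' : -μ ≠ μ := h' ▸ hμ
            simp [h', hμ']
      · simp [blockDiagonal_apply, hpq]
    · simp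
    · simp
    · simp [hμd r]
  exact (congrArg (· ∈ sqCent (D.proj h)) (D.of_scalar _ _ _ heq)).mpr hy'

end CfsgLib.TwoCentralDirect
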