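import Cfsg.Agent.TwoCentralDirect.Blocks
import Cfsg.Agent.Forms4.UnitaryCenter
import Cfsg.Agent.Forms4.SymplecticSimple
import Cfsg.Agent.RepBounds.Unitary.Setting
import Cfsg.Prelude.Def_Classical

/-!
# `PSL_n`, `PSp_2m`, `PSU_n` in odd characteristic have no bad triple
-/

set_option autoImplicit false

set_option linter.unusedSectionVars false
set_option linter.unusedSimpArgs false

namespace CfsgLib.TwoCentralDirect

open Matrix

variable {F : Type*} [Field F] [Fintype F]

/-- A matrix group modulo its centre, the centre being scalar. -/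
def centerData {H : Type*} [Group H] {ι : Type*} [Fintype ι] [DecidableEq ι] (f : H →* Matrix ι ι F)
    (hf : Function.Injective f) (hc : ∀ z ∈ Subgroup.center H, ∃ r : F, f z = r • 1) :
    ProjData H (H ⧸ Subgroup.center H) ι F where
  toMat := f
  inj := hf
  proj := QuotientGroup.mk' _
  surj := QuotientGroup.mk'_surjective _
  scalar x y h := by
    obtain ⟨r, hr⟩ := hc _ (QuotientGroup.eq.1 h.symm)
    refine ⟨r, ?_⟩
    rw [show x = y * (y⁻¹ * x) by group, map_mul, hr, Matrix.mul_smul, mul_one]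
  of_scalar x y r h := by
    refine (QuotientGroup.eq.2 ?_).symm
    rw [Subgroup.mem_center_iff]
    intro b
    have he : f (y⁻¹ * x) = r • 1 := by
      rw [map_mul, h, Matrix.mul_smul, ← map_mul, inv_mul_cancel, map_one]
    apply hf
    rw [map_mul, map_mul f (y⁻¹ * x), he, Matrix.mul_smul, Matrix.smul_mul, mul_one, one_mul]

/-- Pairs and at most one further coordinate. -/
noncomputable def pairEquiv (n : ℕ) : (Fin 2 × Fin (n / 2)) ⊕ Fin (n % 2) ≃ Fin n :=
  Fintype.equivFinOfCardEq (by simp; omega)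

theorem det_blockMat_single {m : ℕ} {ρ ι : Type*} [Fintype ρ] [DecidableEq ρ] [Fintype ι]
    [DecidableEq ι] (e : (Fin 2 × Fin m) ⊕ ρ ≃ ι) (p : Fin m) {X : Matrix (Fin 2) (Fin 2) F}
    (hX : X.det = 1) : (blockMat e (single2 p X)).det = 1 := by
  rw [det_blockMat, Finset.prod_eq_one fun q _ => ?_]
  by_cases hq : q = p
  · subst hq; simpa [single2] using hX
  · simp [single2, hq]

/-- `PSL_n`, `n ≥ 3`. -/
theorem noBadTriple_PSL (h2 : (2 : F) ≠ 0) {n : ℕ} (hn : 3 ≤ n) :
    NoBadTriple (Matrix.ProjectiveSpecialLinearGroup (Fin n) F) := by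
  classical
  obtain ⟨a, b, hab⟩ := exists_sq_add_sq_neg_one F h2
  have : Subsingleton (Fin (n % 2)) := by
    rw [← Fintype.card_le_one_iff_subsingleton, Fintype.card_fin]; omega
  let f : Matrix.SpecialLinearGroup (Fin n) F →* Matrix (Fin n) (Fin n) F :=
    { toFun := fun A => A.1, map_one' := rfl, map_mul' := fun _ _ => rfl }
  exact noBadTriple_of_blocks (pairEquiv n)
    (centerData f Subtype.val_injective fun z hz => by
      obtain ⟨r, -, hr⟩ := Matrix.SpecialLinearGroup.mem_center_iff.1 hz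
      refine ⟨r, ?_⟩
      show z.1 = _
      rw [← hr, smul_one_eq_diagonal]
      rfl)
    h2 (by simpa using hn) hab
    (fun p => ⟨_, det_blockMat_single _ p det_rotMat⟩)
    (fun p => ⟨_, det_blockMat_single _ p (det_antMat hab)⟩) (fun _ => rfl) (fun _ => rfl)

theorem map_blockMat {m : ℕ} {ρ ι : Type*} [Fintype ρ] [DecidableEq ρ] [Fintype ι] [DecidableEq ι]
    (e : (Fin 2 × Fin m) ⊕ ρ ≃ ι) (σ : F →+* F) (A : Fin m → Matrix (Fin 2) (Fin 2) F) :
    (blockMat e A).map σ = blockMat e (fun p => (A p).map σ) := by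
  simp only [blockMat, reindex_apply, ← submatrix_map, fromBlocks_map]
  congr 2
  · exact blockDiagonal_map _ σ (map_zero σ)
  · exact Matrix.map_zero σ (map_zero σ)
  · exact Matrix.map_zero σ (map_zero σ)
  · exact Matrix.map_one σ (map_zero σ) (map_one σ)

theorem transpose_blockMat {m : ℕ} {ρ ι : Type*} [Fintype ρ] [DecidableEq ρ] [Fintype ι]
    [DecidableEq ι] (e : (Fin 2 × Fin m) ⊕ ρ ≃ ι) (A : Fin m → Matrix (Fin 2) (Fin 2) F) :
    (blockMat e A)ᵀ = blockMat e (fun p => (A p)ᵀ) := by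
  simp [blockMat, fromBlocks_transpose, blockDiagonal_transpose]

theorem transpose_rotMat : (rotMat F)ᵀ = -rotMat F := by
  ext i j; fin_cases i <;> fin_cases j <;> simp [rotMat]

/-- `PSU_n`, `n ≥ 3`. -/
theorem noBadTriple_PSU (h2 : (2 : F) ≠ 0) {n q : ℕ} (hF : Fintype.card F = q ^ 2) (hn : 3 ≤ n) :
    NoBadTriple (Cfsg.PSU n F q) := by
  classical
  obtain ⟨C, rfl⟩ := CfsgLib.RepBounds.Unit.exists_conjField q hF
  -- skew scalars `a`, `b` with `a² + b² = -1`
  obtain ⟨ε, hε, hε0⟩ : ∃ ε : F, C.σ ε = -ε ∧ ε ≠ 0 := by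
    obtain ⟨x, hx⟩ : ∃ x, C.σ x ≠ x := not_forall.1 fun h => C.ne_id (RingHom.ext h)
    exact ⟨C.σ x - x, by rw [map_sub, C.invol]; ring, sub_ne_zero.2 hx⟩
  let F0 : Subfield F := RingHom.eqLocusField C.σ (RingHom.id F)
  have hmem : ∀ x, x ∈ F0 ↔ C.σ x = x := fun x => Iff.rfl
  have hδ : -(ε * ε)⁻¹ ∈ F0 := by rw [hmem, map_neg, map_inv₀, map_mul, hε, neg_mul_neg]
  have h20 : (2 : F0) ≠ 0 := fun h => h2 (by rw [← map_ofNat F0.subtype 2, h, map_zero])
  obtain ⟨x, y, hxy⟩ : ∃ x y : F0, x * x + y * y = ⟨-(ε * ε)⁻¹, hδ⟩ := by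
    generalize (⟨-(ε * ε)⁻¹, hδ⟩ : F0) = δ
    obtain ⟨u, v, h⟩ := FiniteField.exists_root_sum_quadratic (R := F0) (f := Polynomial.X ^ 2)
      (g := Polynomial.X ^ 2 - Polynomial.C δ) (Polynomial.degree_X_pow 2)
      (Polynomial.degree_X_pow_sub_C (by decide) _)
      (FiniteField.odd_card_of_char_ne_two fun h => h20 (by
        have : CharP F0 2 := h ▸ ringChar.charP F0
        exact_mod_cast CharP.cast_eq_zero F0 2))
    exact ⟨u, v, by simp at h; linear_combination h⟩
  have hab : ε * x * (ε * x) + ε * y * (ε * y) = (-1 : F) := by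
    have h := congrArg Subtype.val hxy
    simp only [Subfield.coe_add, Subfield.coe_mul] at h
    have hεε : ε * ε * (-(ε * ε)⁻¹) = -1 := by
      rw [mul_neg, mul_inv_cancel₀ (mul_ne_zero hε0 hε0)]
    linear_combination (ε * ε) * h + hεε
  have hskew : ∀ z : F0, C.σ (ε * z) = -(ε * z) := fun z => by
    rw [map_mul, hε, (hmem _).1 z.2, neg_mul]
  have : Subsingleton (Fin (n % 2)) := by
    rw [← Fintype.card_le_one_iff_subsingleton, Fintype.card_fin]; omega
  have hSU : ∀ (A : Matrix.SpecialLinearGroup (Fin n) F), A.1ᵀ * A.1.map C.σ = 1 →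
      A ∈ Cfsg.SU n F C.q := by
    intro A hA u v
    have hh : ∀ u v : Fin n → F, Cfsg.hermForm n F C.q u v = u ⬝ᵥ (fun i => C.σ (v i)) := fun u v => by
      simp [Cfsg.hermForm, dotProduct, C.pow]
    show Cfsg.hermForm n F C.q (A.1 *ᵥ u) (A.1 *ᵥ v) = _
    rw [hh, hh, show (fun i => C.σ ((A.1 *ᵥ v) i)) = A.1.map C.σ *ᵥ (fun i => C.σ (v i)) from
      funext fun i => RingHom.map_mulVec C.σ _ _ i, ← vecMul_transpose, ← dotProduct_mulVec,
      mulVec_mulVec, hA, one_mulVec]
  have hblock : ∀ (p : Fin (n / 2)) (X : Matrix (Fin 2) (Fin 2) F) (hd : X.det = 1),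
      Xᵀ * X.map C.σ = 1 →
      (⟨_, det_blockMat_single (pairEquiv n) p hd⟩ : Matrix.SpecialLinearGroup (Fin n) F) ∈
        Cfsg.SU n F C.q := by
    intro p X hd hX
    apply hSU
    show (blockMat (pairEquiv n) (single2 p X))ᵀ * (blockMat (pairEquiv n) (single2 p X)).map C.σ = 1
    rw [map_blockMat, transpose_blockMat, blockMat_mul, ← blockMat_one (pairEquiv n)]
    congr 1
    funext r
    by_cases hr : r = p
    · subst hr; simpa [single2] using hX
    · simp [single2, hr]
  have hR : (rotMat F)ᵀ * (rotMat F).map C.σ = 1 := by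
    have : (rotMat F).map C.σ = rotMat F := by ext i j; fin_cases i <;> fin_cases j <;> simp [rotMat]
    rw [this, transpose_rotMat, neg_mul, rotMat_mul_self, neg_neg]
  have hY : (antMat (ε * x : F) (ε * y))ᵀ * (antMat (ε * x : F) (ε * y)).map C.σ = 1 := by
    have h1 : (antMat (ε * x : F) (ε * y))ᵀ = antMat (ε * x : F) (ε * y) := by
      ext i j; fin_cases i <;> fin_cases j <;> simp [antMat]
    have h3 : (antMat (ε * x : F) (ε * y)).map C.σ = -antMat (ε * x : F) (ε * y) := by
      ext i j; fin_cases i <;> fin_cases j <;> simp [antMat, hskew]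
    rw [h1, h3, mul_neg, antMat_mul_self hab, neg_neg]
  let f : ↥(Cfsg.SU n F C.q) →* Matrix (Fin n) (Fin n) F :=
    { toFun := fun A => A.1.1, map_one' := rfl, map_mul' := fun _ _ => rfl }
  exact noBadTriple_of_blocks (pairEquiv n)
    (centerData f (fun A B h => Subtype.ext (Subtype.ext h)) fun z hz =>
      CfsgLib.Forms4.exists_scalar_of_mem_center hF (by omega) hz)
    h2 (by simpa using hn) hab
    (fun p => ⟨_, hblock p _ det_rotMat hR⟩)
    (fun p => ⟨_, hblock p _ (det_antMat hab) hY⟩) (fun _ => rfl) (fun _ => rfl)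

/-- The hyperbolic pairs. -/
def hypEquiv (m : ℕ) : (Fin 2 × Fin m) ⊕ Empty ≃ Fin m ⊕ Fin m where
  toFun := fun x => x.elim (fun y => if y.1 = 0 then .inl y.2 else .inr y.2) Empty.elim
  invFun := fun x => x.elim (fun i => .inl (0, i)) fun i => .inl (1, i)
  left_inv := by
    rintro (⟨i, p⟩ | r)
    · fin_cases i <;> simp
    · exact r.elim
  right_inv := by rintro (i | i) <;> simp

theorem J_eq_blockMat (m : ℕ) :
    Matrix.J (Fin m) F = blockMat (hypEquiv m) (fun _ => -rotMat F) := by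
  ext x y
  obtain ⟨x, rfl⟩ := (hypEquiv m).surjective x
  obtain ⟨y, rfl⟩ := (hypEquiv m).surjective y
  simp only [blockMat, reindex_apply, submatrix_apply, Equiv.symm_apply_apply]
  rcases x with ⟨i, p⟩ | r
  · rcases y with ⟨j, q⟩ | s
    · fin_cases i <;> fin_cases j <;>
        simp [hypEquiv, Matrix.J, rotMat, blockDiagonal_apply, one_apply, neg_apply] <;>
        split_ifs <;> simp_all
    · exact s.elim
  · exact r.elim

/-- `PSp_2m`, `m ≥ 2`. -/
theorem noBadTriple_PSp (h2 : (2 : F) ≠ 0) {m : ℕ} (hm : 2 ≤ m) :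
    NoBadTriple (Cfsg.PSp m F) := by
  classical
  obtain ⟨a, b, hab⟩ := exists_sq_add_sq_neg_one F h2
  have hblock : ∀ (p : Fin m) (X : Matrix (Fin 2) (Fin 2) F), X.det = 1 →
      blockMat (hypEquiv m) (single2 p X) ∈ Matrix.symplecticGroup (Fin m) F := by
    intro p X hX
    rw [SymplecticGroup.mem_iff, J_eq_blockMat, transpose_blockMat, blockMat_mul, blockMat_mul]
    congr 1
    funext q
    show single2 p X q * -rotMat F * (single2 p X q)ᵀ = -rotMat F
    by_cases hq : q = p
    · subst hq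
      rw [single2, Function.update_self]
      rw [det_fin_two] at hX
      ext i j
      fin_cases i <;> fin_cases j <;> simp [rotMat, Matrix.mul_apply, Fin.sum_univ_two] <;>
        first | linear_combination -hX | linear_combination hX | ring
    · simp [single2, hq]
  exact noBadTriple_of_blocks (hypEquiv m)
    (centerData (Matrix.symplecticGroup (Fin m) F).subtype Subtype.val_injective fun z hz =>
      CfsgLib.Forms4.mem_center_iff.1 hz)
    h2 (by simp; omega) hab
    (fun p => ⟨_, hblock p _ det_rotMat⟩)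
    (fun p => ⟨_, hblock p _ (det_antMat hab)⟩) (fun _ => rfl) (fun _ => rfl)

end CfsgLib.TwoCentralDirect
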