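import Cfsg.Agent.TwoCentralDirect.Bad
import Cfsg.Agent.Small.ThompsonTransfer
import Cfsg.Prelude.Def_TwoFusion

/-!
# A two-central involution with centraliser `⟨t⟩ × F`, `F` simple

If `G` has no subgroup of index two, extremal transfer makes `t` conjugate to a central involution of
`S ∩ F`; such an element is bad in `F`, and the normaliser of `S ∩ F` in `F` moves it, so `F` has three
commuting bad involutions central in a Sylow 2-subgroup.
-/

set_option autoImplicit false

namespace CfsgLib.TwoCentralDirect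

open Subgroup

variable {G : Type*} [Group G]

/-- An element outside the squares of a group is missed by a subgroup of index two. -/
theorem exists_index_two_not_mem {P : Type*} [Group P] [Finite P] {x : P}
    (hx : x ∉ closure {y : P | ∃ z, z * z = y}) : ∃ M : Subgroup P, M.index = 2 ∧ x ∉ M := by
  set V := closure {y : P | ∃ z, z * z = y} with hV
  obtain ⟨M, ⟨hVM, hxM⟩, hmax⟩ :=
    (Set.toFinite {M : Subgroup P | V ≤ M ∧ x ∉ M}).exists_maximal ⟨V, le_refl V, hx⟩
  have hsq : ∀ z, z * z ∈ M := fun z => hVM (subset_closure ⟨z, rfl⟩)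
  have hnorm : ∀ m ∈ M, ∀ s, s * m * s⁻¹ ∈ M := by
    intro m hm s
    have h1 := mul_mem (mul_mem (hsq (s * m)) (inv_mem hm)) (inv_mem (hsq s))
    rwa [show s * m * (s * m) * m⁻¹ * (s * s)⁻¹ = s * m * s⁻¹ by group] at h1
  have hstep : ∀ a, a ∉ M → a * x ∈ M := by
    intro a ha
    by_contra hax
    let N : Subgroup P :=
      { carrier := {y | y ∈ M ∨ a * y ∈ M}
        one_mem' := Or.inl (one_mem _)
        mul_mem' := by
          rintro u v (hu | hu) (hv | hv)
          · exact Or.inl (mul_mem hu hv)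
          · refine Or.inr ?_
            rw [show a * (u * v) = a * u * a⁻¹ * (a * v) by group]
            exact mul_mem (hnorm u hu a) hv
          · exact Or.inr (by rw [← mul_assoc]; exact mul_mem hu hv)
          · refine Or.inl ?_
            rw [show u * v = (a * a)⁻¹ * (a * (a * u) * a⁻¹) * (a * v) by group]
            exact mul_mem (mul_mem (inv_mem (hsq a)) (hnorm _ hu a)) hv
        inv_mem' := by
          rintro u (hu | hu)
          · exact Or.inl (inv_mem hu)
          · refine Or.inr ?_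
            rw [show a * u⁻¹ = a * (a * u)⁻¹ * a⁻¹ * (a * a) by group]
            exact mul_mem (hnorm _ (inv_mem hu) a) (hsq a) }
    have hxN : x ∉ N := fun h => h.elim hxM hax
    have hMN : M ≤ N := fun y hy => Or.inl hy
    have haN : a⁻¹ ∈ N := Or.inr (by simp)
    have := hmax ⟨hVM.trans hMN, hxN⟩ hMN haN
    exact ha (by simpa using inv_mem this)
  refine ⟨M, index_eq_two_iff.2 ⟨x, fun b => ?_⟩, hxM⟩
  by_cases hb : b ∈ M
  · exact Or.inr ⟨hb, fun h => hxM (by simpa using mul_mem (inv_mem hb) h)⟩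
  · exact Or.inl ⟨hstep b hb, hb⟩

/-- A coset of `M` fixed by `f` whose stabiliser has index at most two in `S`. -/
theorem exists_fixed_coset [Finite G] (hno : ∀ H : Subgroup G, H.index ≠ 2) (S : Sylow 2 G)
    {M : Subgroup G} (hM : M.index % 4 = 2) {f : G} (hfS : ∀ s ∈ (S : Subgroup G), Commute s f)
    (hf : orderOf f = 2) :
    ∃ g : G, g⁻¹ * f * g ∈ M ∧ (M.map (MulAut.conj g).toMonoidHom).relIndex S ≤ 2 := by
  classical
  have := Fintype.ofFinite (G ⧸ M)
  by_contra hcon
  push Not at hcon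
  let φ := MulAction.toPermHom G (G ⧸ M)
  have hfix : ∀ g : G, φ f (g : G ⧸ M) = g ↔ g⁻¹ * f * g ∈ M := fun g => by
    show ((f * g : G) : G ⧸ M) = g ↔ _
    rw [eq_comm, QuotientGroup.eq, mul_assoc]
  let X : Set (G ⧸ M) := {c | f • c = c}
  have hXs : ∀ (s : (S : Subgroup G)) (c : X), (s : G) • (c : G ⧸ M) ∈ X := fun s c => by
    show f • ((s : G) • (c : G ⧸ M)) = (s : G) • (c : G ⧸ M)
    rw [smul_smul, ← (hfS s s.2).eq, mul_smul, c.2]
  let _ : MulAction (S : Subgroup G) X :=
    { smul := fun s c => ⟨(s : G) • (c : G ⧸ M), hXs s c⟩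
      one_smul := fun c => Subtype.ext (one_smul G _)
      mul_smul := fun a b c => Subtype.ext (mul_smul (a : G) (b : G) (c : G ⧸ M)) }
  have horb : ∀ c : X, 4 ∣ Nat.card (MulAction.orbit (S : Subgroup G) c) := by
    intro c
    obtain ⟨g, hg⟩ := QuotientGroup.mk_surjective (c : G ⧸ M)
    have hgM : g⁻¹ * f * g ∈ M := by
      rw [← hfix]
      show f • (g : G ⧸ M) = (g : G ⧸ M)
      rw [hg]
      exact c.2
    have hstab : MulAction.stabilizer (S : Subgroup G) c =
        (M.map (MulAut.conj g).toMonoidHom).subgroupOf S := by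
      ext s
      rw [MulAction.mem_stabilizer_iff, mem_subgroupOf, Subtype.ext_iff,
        Subgroup.mem_map_equiv, MulAut.conj_symm_apply]
      show (s : G) • (c : G ⧸ M) = c ↔ _
      rw [← hg]
      show ((s * g : G) : G ⧸ M) = g ↔ _
      rw [eq_comm, QuotientGroup.eq, mul_assoc]
    have hlt := hcon g hgM
    rw [Nat.card_coe_set_eq, ← MulAction.index_stabilizer, hstab]
    change 2 < ((M.map (MulAut.conj g).toMonoidHom).subgroupOf S).index at hlt
    have : Fact (Nat.Prime 2) := ⟨Nat.prime_two⟩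
    obtain ⟨k, hk⟩ := S.isPGroup'.index ((M.map (MulAut.conj g).toMonoidHom).subgroupOf S)
    rw [hk] at hlt ⊢
    rcases k with _ | _ | k
    · norm_num at hlt
    · norm_num at hlt
    · exact ⟨2 ^ k, by ring⟩
  have hX4 : 4 ∣ Nat.card X := by
    have := Fintype.ofFinite (MulAction.orbitRel.Quotient (S : Subgroup G) X)
    rw [Nat.card_congr (MulAction.selfEquivSigmaOrbits (S : Subgroup G) X), Nat.card_sigma]
    exact Finset.dvd_sum fun q _ => horb _
  have hXc : Nat.card X = Fintype.card (G ⧸ M) - (φ f).support.card := by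
    rw [Nat.card_eq_fintype_card, ← Finset.card_compl, Fintype.card_subtype]
    congr 1
    ext c
    simp [X, φ, Equiv.Perm.mem_support]
  have hcard : Fintype.card (G ⧸ M) % 4 = 2 := by
    rwa [← Nat.card_eq_fintype_card, ← Subgroup.index_eq_card]
  have hle := Finset.card_le_univ (φ f).support
  have hsupp : (φ f).support.card ≠ 0 := fun h0 => by
    rw [h0, Nat.sub_zero] at hXc
    omega
  have hord : orderOf (φ f) = 2 := by
    refine orderOf_eq_prime ?_ fun h1 => hsupp (by rw [h1]; simp)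
    rw [← map_pow, ← hf, pow_orderOf_eq_one, map_one]
  obtain ⟨H, hH⟩ := CfsgLib.Small.exists_index_two_of_odd_perm φ (g := f) (by
    rw [CfsgLib.Small.sign_of_sq_eq_one hord, Odd.neg_one_pow (by rw [Nat.odd_iff]; omega)]
    decide)
  exact hno H hH

/-- Extremal transfer for a central involution of a Sylow 2-subgroup. -/
theorem exists_central_conj [Finite G] (hno : ∀ H : Subgroup G, H.index ≠ 2) (S : Sylow 2 G)
    {f : G} (hfS : ∀ s ∈ (S : Subgroup G), Commute s f) (hf : orderOf f = 2)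
    (hfm : f ∈ (S : Subgroup G)) {M : Subgroup G} (hMS : M ≤ S) (hM : M.relIndex S = 2)
    (hfM : f ∉ M) :
    ∃ g : G, g⁻¹ * f * g ∈ M ∧ ∀ s ∈ (S : Subgroup G), Commute s (g⁻¹ * f * g) := by
  have : Fact (Nat.Prime 2) := ⟨Nat.prime_two⟩
  have hidx : M.index % 4 = 2 := by
    rw [← relIndex_mul_index hMS, hM]
    have := S.not_dvd_index
    omega
  obtain ⟨g, hg, hle⟩ := exists_fixed_coset hno S hidx hfS hf
  refine ⟨g, hg, ?_⟩
  set Mg := M.map (MulAut.conj g).toMonoidHom with hMg
  have hcM : Nat.card Mg = Nat.card M := card_map_of_injective (MulAut.conj g).injective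
  have hSM : Nat.card M * 2 = Nat.card (S : Subgroup G) := by
    have h := relIndex_mul_relIndex ⊥ M (S : Subgroup G) bot_le hMS
    rwa [relIndex_bot_left, relIndex_bot_left, hM] at h
  have h2 : Nat.card (Mg ⊓ (S : Subgroup G) : Subgroup G) * Mg.relIndex S =
      Nat.card (S : Subgroup G) := by
    have h := relIndex_mul_relIndex ⊥ (Mg ⊓ (S : Subgroup G)) (S : Subgroup G) bot_le inf_le_right
    rwa [relIndex_bot_left, relIndex_bot_left, inf_relIndex_right] at h
  have heq : Mg ⊓ (S : Subgroup G) = Mg :=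
    eq_of_le_of_card_ge inf_le_left (by
      by_contra hlt
      push Not at hlt
      rw [hcM] at hlt
      have := Nat.mul_le_mul (le_refl (Nat.card (Mg ⊓ (S : Subgroup G) : Subgroup G))) hle
      omega)
  have hcomm : ∀ m ∈ M, Commute m (g⁻¹ * f * g) := by
    intro m hm
    have h := hfS _ (inf_eq_left.1 heq ⟨m, hm, rfl⟩)
    have := h.map (MulAut.conj g⁻¹)
    simpa [mul_assoc] using this
  have hfc : Commute f (g⁻¹ * f * g) := ((hfS _ (hMS hg))).symm
  intro s hs
  by_cases hsM : s ∈ M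
  · exact hcomm s hsM
  have hsf : f⁻¹ * s ∈ M := by
    have h := mul_mem_iff_of_index_two (H := M.subgroupOf S) hM
      (a := ⟨f⁻¹, inv_mem hfm⟩) (b := ⟨s, hs⟩)
    simp only [mem_subgroupOf, Subgroup.coe_mul, inv_mem_iff] at h
    exact h.2 (iff_of_false hfM hsM)
  have := hfc.mul_left (hcomm _ hsf)
  simpa using this

/-- An element moving a point with a 2-power period is odd-order movable. -/
theorem exists_three [Finite G] (S : Sylow 2 G) {f n : G}
    (hn : n ∈ normalizer ((S : Subgroup G) : Set G)) (hfS : ∀ s ∈ (S : Subgroup G), Commute s f)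
    (hmv : n * f * n⁻¹ ≠ f) :
    ∃ m ∈ normalizer ((S : Subgroup G) : Set G),
      m * f * m⁻¹ ≠ f ∧ m * m * f * (m * m)⁻¹ ≠ f := by
  have : Fact (Nat.Prime 2) := ⟨Nat.prime_two⟩
  obtain ⟨k, o, ho, hko⟩ := Nat.exists_eq_two_pow_mul_odd (orderOf_pos n).ne'
  let St : Subgroup G := centralizer {f}
  have hSt : ∀ x, x ∈ St ↔ x * f * x⁻¹ = f := fun x => by
    rw [mem_centralizer_singleton_iff, mul_inv_eq_iff_eq_mul]
  have hno : n ∉ St := fun h => hmv ((hSt n).1 h)
  have hpo : n ^ o ∈ St := by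
    have hp : IsPGroup 2 (zpowers (n ^ o)) :=
      IsPGroup.of_card (n := k) (by
        rw [Nat.card_zpowers, orderOf_pow' _ (by rintro rfl; simp at ho),
          hko, Nat.gcd_eq_right ⟨_, mul_comm _ _⟩]
        exact Nat.mul_div_cancel _ ho.pos)
    have : zpowers (n ^ o) ≤ S := by
      rw [← inf_eq_left, ← hp.inf_normalizer_sylow S, inf_eq_left, zpowers_le]
      exact pow_mem hn o
    exact mem_centralizer_singleton_iff.2 (hfS _ (this (mem_zpowers _))).eq
  refine ⟨n ^ 2 ^ k, pow_mem hn _, fun h => ?_, fun h => ?_⟩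
  · refine hno ?_
    have hg : Nat.gcd o (2 ^ k) = 1 := (Nat.coprime_two_right.2 ho).pow_right k
    have hb := Nat.gcd_eq_gcd_ab o (2 ^ k)
    rw [hg] at hb
    rw [← zpow_one n, show (1 : ℤ) = _ from by exact_mod_cast hb, zpow_add, zpow_mul, zpow_mul,
      zpow_natCast, zpow_natCast]
    exact mul_mem (St.zpow_mem hpo _) (St.zpow_mem ((hSt _).2 h) _)
  · refine hno ?_
    rw [← hSt, ← pow_add, ← two_mul, ← pow_succ'] at h
    have hg : Nat.gcd o (2 ^ (k + 1)) = 1 := (Nat.coprime_two_right.2 ho).pow_right _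
    have hb := Nat.gcd_eq_gcd_ab o (2 ^ (k + 1))
    rw [hg] at hb
    rw [← zpow_one n, show (1 : ℤ) = _ from by exact_mod_cast hb, zpow_add, zpow_mul, zpow_mul,
      zpow_natCast, zpow_natCast]
    exact mul_mem (St.zpow_mem hpo _) (St.zpow_mem h _)

/-- The configuration: `C(t) = ⟨t⟩ × F` with a Sylow 2-subgroup inside. -/
structure Config (G : Type*) [Group G] where
  t : G
  ht : orderOf t = 2
  S : Sylow 2 G
  htS : t ∈ (S : Subgroup G)
  htc : ∀ s ∈ (S : Subgroup G), Commute s t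
  F : Subgroup G
  hF : Cfsg.IsInternalDirectProduct (zpowers t) F (centralizer ({t} : Set G))

namespace Config

variable (c : Config G)

theorem t_sq : c.t * c.t = 1 := by rw [← pow_two, ← c.ht, pow_orderOf_eq_one]

theorem t_notMem : c.t ∉ c.F := fun h => by
  have : c.t ∈ (zpowers c.t ⊓ c.F : Subgroup G) := ⟨mem_zpowers _, h⟩
  rw [c.hF.2.2.2.1, mem_bot] at this
  have h2 := c.ht
  rw [this, orderOf_one] at h2
  omega

theorem commute_F {x : G} (hx : x ∈ c.F) : Commute c.t x := c.hF.2.2.1 _ (mem_zpowers _) _ hx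

theorem S_le : (c.S : Subgroup G) ≤ centralizer ({c.t} : Set G) := fun s hs =>
  mem_centralizer_singleton_iff.2 (c.htc s hs).eq

theorem decomp {x : G} (hx : Commute x c.t) : x ∈ c.F ∨ c.t * x ∈ c.F := by
  have hxm : x ∈ centralizer ({c.t} : Set G) := mem_centralizer_singleton_iff.2 hx.eq
  rw [← c.hF.2.2.2.2] at hxm
  have hn : zpowers c.t ≤ normalizer (c.F : Set G) := zpowers_le.2 (by
    rw [mem_normalizer_iff]
    intro h
    constructor
    · intro hh; rwa [(c.commute_F hh).eq, mul_inv_cancel_right]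
    · intro hh
      have e : Commute c.t (c.t * h * c.t⁻¹) := c.commute_F hh
      have h2 : Commute c.t h := by simpa [mul_assoc] using e.map (MulAut.conj c.t⁻¹)
      rwa [h2.eq, mul_inv_cancel_right] at hh)
  rw [← SetLike.mem_coe, coe_mul_of_left_le_normalizer_right _ _ hn] at hxm
  obtain ⟨a, ha, b, hb, rfl⟩ := hxm
  dsimp only at hx ⊢
  obtain ⟨i, rfl⟩ := mem_zpowers_iff.1 ha
  rcases Int.even_or_odd i with ⟨j, rfl⟩ | ⟨j, rfl⟩
  · left
    rwa [← two_mul, zpow_mul, zpow_two, c.t_sq, one_zpow, one_mul]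
  · right
    rwa [zpow_add, zpow_mul, zpow_two, c.t_sq, one_zpow, one_mul, zpow_one, ← mul_assoc, c.t_sq,
      one_mul]

theorem bad_t : Bad c.t := by
  intro h
  refine c.t_notMem ?_
  have hle : sqCent c.t ≤ c.F := by
    rw [sqCent, closure_le]
    rintro _ ⟨z, hz, rfl⟩
    rcases c.decomp hz with h1 | h1
    · exact mul_mem h1 h1
    · have h2 := mul_mem h1 h1
      rwa [show c.t * z * (c.t * z) = c.t * c.t * (z * z) by
        rw [mul_assoc, ← mul_assoc z, hz.eq]; group, c.t_sq, one_mul] at h2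
  exact hle h

theorem relIndex_inf : ((c.S : Subgroup G) ⊓ c.F).relIndex c.S = 2 := by
  refine index_eq_two_iff.2 ⟨⟨c.t, c.htS⟩, fun b => ?_⟩
  simp only [mem_subgroupOf, Subgroup.coe_mul, mem_inf, b.2, mul_mem b.2 c.htS, true_and]
  rcases c.decomp (c.htc b b.2) with h | h
  · exact Or.inr ⟨h, fun h' => c.t_notMem (by simpa using mul_mem (inv_mem h) h')⟩
  · refine Or.inl ⟨by rwa [(c.htc b b.2).eq], fun h' => c.t_notMem ?_⟩
    simpa using mul_mem h (inv_mem h')

/-- `S ∩ F`, a Sylow 2-subgroup of `F`. -/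
noncomputable def sylowF [Finite G] : Sylow 2 c.F where
  toSubgroup := (c.S : Subgroup G).subgroupOf c.F
  isPGroup' := c.S.isPGroup'.comap_subtype
  is_maximal' := by
    intro Q hQ hle
    refine le_antisymm ?_ hle
    have : Fact (Nat.Prime 2) := ⟨Nat.prime_two⟩
    have hp : IsPGroup 2 (zpowers c.t) :=
      IsPGroup.of_card (n := 1) (by rw [Nat.card_zpowers, c.ht, pow_one])
    have hn : zpowers c.t ≤ normalizer ((Q.map c.F.subtype : Subgroup G) : Set G) := by
      rw [zpowers_le, mem_normalizer_iff]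
      intro h
      constructor
      · rintro ⟨y, hy, rfl⟩
        exact ⟨y, hy, by simp [(c.commute_F y.2).eq]⟩
      · rintro ⟨y, hy, e⟩
        refine ⟨y, hy, ?_⟩
        have e' : h = c.t⁻¹ * (y : G) * c.t := by
          rw [show (y : G) = c.t * h * c.t⁻¹ from e]; group
        rw [e', mul_assoc, ← (c.commute_F y.2).eq]
        simp
    have hsup := hp.to_sup_of_normal_right' (hQ.map c.F.subtype) hn
    have hS : (c.S : Subgroup G) ≤ zpowers c.t ⊔ Q.map c.F.subtype := by
      intro s hs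
      rcases c.decomp (c.htc s hs) with h | h
      · exact mem_sup_right ⟨⟨s, h⟩, hle hs, rfl⟩
      · have h1 : c.t * s ∈ Q.map c.F.subtype := ⟨⟨_, h⟩, hle (mul_mem c.htS hs), rfl⟩
        have h2 := mul_mem_sup (mem_zpowers c.t) h1
        rwa [← mul_assoc, c.t_sq, one_mul] at h2
    have heq := c.S.is_maximal' hsup hS
    intro q hq
    rw [mem_subgroupOf, ← heq]
    exact mem_sup_right ⟨q, hq, rfl⟩

/-- Without a subgroup of index two, `t` is conjugate to a central involution of `S ∩ F`. -/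
theorem exists_conj_mem [Finite G] (hno : ∀ H : Subgroup G, H.index ≠ 2) :
    ∃ g : G, g * c.t * g⁻¹ ∈ c.F ∧ g * c.t * g⁻¹ ∈ (c.S : Subgroup G) ∧
      ∀ s ∈ (c.S : Subgroup G), Commute s (g * c.t * g⁻¹) := by
  obtain ⟨g, hg, hc⟩ := exists_central_conj hno c.S c.htc c.ht c.htS inf_le_left c.relIndex_inf
    fun h => c.t_notMem h.2
  refine ⟨g⁻¹, ?_, ?_, ?_⟩ <;> rw [inv_inv]
  exacts [hg.2, hg.1, hc]

/-- The configuration is impossible when `F` has no subgroup of index two and no bad triple. -/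
theorem false_of_noBadTriple [Finite G] (hno : ∀ H : Subgroup G, H.index ≠ 2)
    (hFno : ∀ H : Subgroup c.F, H.index ≠ 2) (hnb : NoBadTriple c.F) : False := by
  have : Fact (Nat.Prime 2) := ⟨Nat.prime_two⟩
  obtain ⟨g, hgF, hgS, hgc⟩ := c.exists_conj_mem hno
  set P := c.sylowF
  have hP : ∀ x : c.F, x ∈ (P : Subgroup c.F) ↔ (x : G) ∈ (c.S : Subgroup G) := fun x => Iff.rfl
  set f : c.F := ⟨g * c.t * g⁻¹, hgF⟩ with hf
  have hbad : ∀ y : c.F, Bad (y * f * y⁻¹) := fun y => by
    refine Bad.subtype ?_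
    simpa using (c.bad_t.conj g).conj (y : G)
  have hfb : Bad f := by simpa using hbad 1
  have hfc : ∀ s ∈ (P : Subgroup c.F), Commute s f := fun s hs =>
    Subtype.ext (hgc s ((hP s).1 hs)).eq
  have hford : orderOf f = 2 := by
    rw [← orderOf_coe, hf]
    exact ((MulAut.conj g).orderOf_eq c.t).trans c.ht
  have hfP : f ∈ (P : Subgroup c.F) := (hP f).2 hgS
  obtain ⟨M, hM, hfM⟩ := exists_index_two_not_mem (x := (⟨f, hfP⟩ : (P : Subgroup c.F))) (by
    intro h
    refine hfb ?_
    have hle : (closure {y : (P : Subgroup c.F) | ∃ z, z * z = y}).map (P : Subgroup c.F).subtype ≤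
        sqCent f := by
      rw [MonoidHom.map_closure, closure_le]
      rintro _ ⟨_, ⟨z, rfl⟩, rfl⟩
      exact sq_mem_sqCent (hfc z z.2)
    exact hle ⟨_, h, rfl⟩)
  obtain ⟨y, hy, hyc⟩ := exists_central_conj hFno P hfc hford hfP
    (M := M.map (P : Subgroup c.F).subtype) (map_subtype_le M)
    (by rw [relIndex, subgroupOf, comap_map_eq_self_of_injective (subtype_injective _) M]; exact hM)
    (fun ⟨z, hz, e⟩ => hfM (by
      have : z = ⟨f, hfP⟩ := Subtype.ext e
      rwa [this] at hz))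
  have hne : y⁻¹ * f * y ≠ f := fun e => hfM (by
    rw [e] at hy
    obtain ⟨z, hz, e'⟩ := hy
    have : z = ⟨f, hfP⟩ := Subtype.ext e'
    rwa [this] at hz)
  obtain ⟨n, hn, hne'⟩ := P.conj_eq_normalizer_conj_of_mem_centralizer f y
    (mem_centralizer_iff.2 fun s hs => (hfc s hs).eq) (mem_centralizer_iff.2 fun s hs => (hyc s hs).eq)
  obtain ⟨m, hm, hm1, hm2⟩ := exists_three P (inv_mem hn) hfc (by rw [inv_inv, ← hne']; exact hne)
  obtain ⟨T, hT, hno3⟩ := hnb
  obtain ⟨Q, hQ⟩ := hT.exists_le_sylow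
  obtain ⟨u, rfl⟩ := MulAction.exists_smul_eq c.F P Q
  have hcent : ∀ i ∈ normalizer ((P : Subgroup c.F) : Set c.F),
      ∀ s ∈ T, Commute s (u * (i * f * i⁻¹) * u⁻¹) := by
    intro i hi s hs
    have h1 := hQ hs
    rw [Sylow.coe_subgroup_smul, mem_pointwise_smul_iff_inv_smul_mem] at h1
    simp only [MulAut.smul_def, MulAut.conj_apply, map_inv, MulAut.inv_apply,
      MulAut.conj_symm_apply] at h1
    have h2 : i⁻¹ * (u⁻¹ * s * u) * i ∈ (P : Subgroup c.F) :=
      (mem_normalizer_iff''.1 hi _).1 h1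
    have h3 := ((hfc _ h2).map (MulAut.conj i)).map (MulAut.conj u)
    simpa [mul_assoc] using h3
  have hself : ∀ i j : c.F, i ∈ normalizer ((P : Subgroup c.F) : Set c.F) →
      j ∈ normalizer ((P : Subgroup c.F) : Set c.F) →
      Commute (u * (i * f * i⁻¹) * u⁻¹) (u * (j * f * j⁻¹) * u⁻¹) := by
    intro i j hi hj
    have h2 : j⁻¹ * (i * f * i⁻¹) * j ∈ (P : Subgroup c.F) :=
      (mem_normalizer_iff''.1 hj _).1 ((mem_normalizer_iff.1 hi f).1 hfP)
    have h3 := ((hfc _ h2).map (MulAut.conj j)).map (MulAut.conj u)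
    simpa [mul_assoc] using h3
  have hbd : ∀ i : c.F, Bad (u * (i * f * i⁻¹) * u⁻¹) := fun i => (hbad i).conj u
  have hsq : ∀ i : c.F, u * (i * f * i⁻¹) * u⁻¹ * (u * (i * f * i⁻¹) * u⁻¹) = 1 := fun i => by
    rw [show u * (i * f * i⁻¹) * u⁻¹ * (u * (i * f * i⁻¹) * u⁻¹) = u * i * (f * f) * i⁻¹ * u⁻¹ by
      group, ← pow_two, ← hford, pow_orderOf_eq_one]
    group
  have hinj : ∀ i j : c.F, u * i * u⁻¹ = u * j * u⁻¹ → i = j := fun i j e =>
    mul_left_cancel (mul_right_cancel e)
  exact hno3 _ _ _ (hcent 1 (one_mem _)) (hcent m hm) (hcent (m * m) (mul_mem hm hm))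
    (hsq 1) (hsq m) (hsq _) (hself 1 m (one_mem _) hm) (hself 1 (m * m) (one_mem _) (mul_mem hm hm))
    (hself m (m * m) hm (mul_mem hm hm))
    (fun e => hm1 (by simpa using (hinj _ _ e).symm))
    (fun e => hm2 (by simpa using (hinj _ _ e).symm))
    (fun e => hm1 (by
      have e' := hinj _ _ e
      refine mul_left_cancel (a := m) (mul_right_cancel (b := m⁻¹) ?_)
      exact (show m * (m * f * m⁻¹) * m⁻¹ = m * m * f * (m * m)⁻¹ by group).trans e'.symm))
    (hbd 1) (hbd m) (hbd _)

end Config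

end CfsgLib.TwoCentralDirect
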