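import Cfsg.Agent.LangTorus.Regular

/-!
# Centralisers of separating families of torus elements

An element of a Chevalley group commuting with torus elements that together separate the roots
from zero is monomial, and its Weyl permutation preserves the values of those elements.
-/

set_option autoImplicit false

namespace CfsgLib.TwoCentralDirect

open Cfsg.Lie CfsgLib.Chevalley CfsgLib.ChevTorus CfsgLib.LangChev CfsgLib.LangTorus

variable {D : ChevalleyDatum} {F : Type*} [Field F]

/-- The factors of the Bruhat form of an element commuting with a torus element commute with it. -/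
theorem commute_parts {C : Weyl.Cert D.rank} {M : CoxeterMatrix (Fin D.rank)} {R : Weyl.RootTable}
    (hW : GoodWeyl D) (h : Weyl.RootGood C M R) {t : GL D.Idx F}
    (htd : t ∈ D.diagonalSubgroup F) {w : M.Group} {v d u : GL D.Idx F}
    (hv : v ∈ D.posUnipotent F) (hd : d ∈ D.diagonalSubgroup F) (hu : u ∈ uW hW h F w)
    (hg : v * d * nW hW h F w * u ∈ D.group F)
    (he : Commute t (v * d * nW hW h F w * u)) :
    Commute t u ∧ Commute t v ∧ Commute t (nW hW h F w) := by
  set n := nW hW h F w with hn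
  have hnN : n ∈ D.monomialSubgroup F := nW_mem hW h w
  have hb : v * d ∈ D.borelSubgroup F := mul_mem (pos_le_borel D hv) (diag_le_borel D hd)
  set k := n⁻¹ * t * n * t⁻¹ with hkdef
  have hk : k ∈ D.diagonalSubgroup F :=
    mul_mem ((Subgroup.mem_normalizer_iff''.1 (monomial_le_normalizer hW hnN) t).1 htd) (inv_mem htd)
  have hnk : n * k * n⁻¹ ∈ D.diagonalSubgroup F :=
    (Subgroup.mem_normalizer_iff.1 (monomial_le_normalizer hW hnN) k).1 hk
  have hu' : t * u * t⁻¹ ∈ uW hW h F w := diag_conj_rootGen hW htd hu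
  have hb' : t * (v * d) * t⁻¹ * (n * k * n⁻¹) ∈ D.borelSubgroup F :=
    mul_mem (mul_mem (mul_mem (diag_le_borel D htd) hb) (inv_mem (diag_le_borel D htd)))
      (diag_le_borel D hnk)
  have e' : t * (v * d) * t⁻¹ * (n * k * n⁻¹) * n * (t * u * t⁻¹) = v * d * n * u := by
    rw [hkdef, show t * (v * d) * t⁻¹ * (n * (n⁻¹ * t * n * t⁻¹) * n⁻¹) * n * (t * u * t⁻¹) =
      t * (v * d * n * u) * t⁻¹ by group, he.eq, mul_inv_cancel_right]
  obtain ⟨z, -, huniq⟩ := existsUnique_form hW h hg
  have h3 := (huniq (w, t * (v * d) * t⁻¹ * (n * k * n⁻¹), t * u * t⁻¹) ⟨hb', hu', e'⟩).trans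
    (huniq (w, v * d, u) ⟨hb, hu, rfl⟩).symm
  simp only [Prod.mk.injEq, true_and] at h3
  obtain ⟨h1, h2⟩ := h3
  have hdt : t * d * t⁻¹ = d := by rw [diag_comm hW htd hd, mul_inv_cancel_right]
  have h4 : v⁻¹ * (t * v * t⁻¹) = d * (n * k * n⁻¹)⁻¹ * d⁻¹ := by
    have : t * v * t⁻¹ * (t * d * t⁻¹) * (n * k * n⁻¹) = v * d := by rw [← h1]; group
    rw [hdt] at this
    rw [show t * v * t⁻¹ = v * d * (n * k * n⁻¹)⁻¹ * d⁻¹ by rw [← this]; group]
    group
  have hvU : t * v * t⁻¹ ∈ D.posUnipotent F :=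
    (Subgroup.mem_normalizer_iff.1 (diag_le_normalizer_pos hW htd) v).1 hv
  have h5 : v⁻¹ * (t * v * t⁻¹) = 1 := by
    have h8 : v⁻¹ * (t * v * t⁻¹) ∈ D.posUnipotent F ⊓ D.diagonalSubgroup F :=
      Subgroup.mem_inf.2 ⟨mul_mem (inv_mem hv) hvU,
        h4 ▸ mul_mem (mul_mem hd (inv_mem hnk)) (inv_mem hd)⟩
    rw [pos_inf_diag hW] at h8
    exact Subgroup.mem_bot.1 h8
  have hk1 : k = 1 := by
    rw [h5] at h4
    have h6 : (n * k * n⁻¹)⁻¹ = 1 := by
      calc (n * k * n⁻¹)⁻¹ = d⁻¹ * (d * (n * k * n⁻¹)⁻¹ * d⁻¹) * d := by group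
        _ = 1 := by rw [← h4]; group
    rw [inv_eq_one] at h6
    calc k = n⁻¹ * (n * k * n⁻¹) * n := by group
      _ = 1 := by rw [h6]; group
  refine ⟨mul_inv_eq_iff_eq_mul.1 h2, mul_inv_eq_iff_eq_mul.1 (inv_mul_eq_one.1 h5).symm, ?_⟩
  calc t * n = n * k * t := by rw [hkdef]; group
    _ = n * t := by rw [hk1, mul_one]

/-- An element of `U` commuting with a separating family of torus elements is trivial. -/
theorem eq_one_of_commute_family (hW : GoodWeyl D) {ι : Type*} {c : ι → Fin D.rank → Fˣ}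
    (hc : ∀ r : Root D, ∃ i, torVal (c i) (Sum.inr r) ≠ 1) {u : GL D.Idx F}
    (hu : u ∈ D.posUnipotent F) (he : ∀ i, Commute (torC D (c i)) u) : u = 1 := by
  rw [posUnipotent_eq hW.good] at hu
  obtain ⟨t, rfl⟩ := exists_sideR hW.toGoodComm false hu
  have h0 : t = 0 := by
    funext j
    obtain ⟨i, hi⟩ := hc (rootOf hW.good false (half D + j))
    have e1 := torC_conj_sideR hW.good false (c i) t
    rw [(he i).eq, mul_inv_cancel_right] at e1
    have e2 := congrFun (sideR_injective hW.toGoodUni false e1) j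
    by_contra hne
    refine hi (Units.ext (mul_right_cancel₀ hne ?_))
    rw [Units.val_one, one_mul, ← e2]
  subst h0
  rw [sideR]
  exact List.prod_eq_one fun x hx => by
    obtain ⟨j, rfl⟩ := List.mem_ofFn.1 hx
    exact X_zero _ _

/-- The permutation of a monomial element commuting with a torus element fixes its values. -/
theorem torVal_fix (hW : GoodWeyl D) {g : GL D.Idx F} {π : Equiv.Perm (Root D)}
    (hg : MonBy hW g π) {c : Fin D.rank → Fˣ} (he : Commute (torC D c) g) (r : Root D) :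
    torVal c (Sum.inr (π r)) = torVal c (Sum.inr r) := by
  obtain ⟨s, hs⟩ := hg.conj_X r
  have e1 := torC_conj_X hW.good c (π r) ((s : F) * 1)
  rw [← hs, show torC D c * (g * X hW.good r 1 * g⁻¹) * (torC D c)⁻¹ =
    (torC D c * g) * X hW.good r 1 * (torC D c * g)⁻¹ by group, he.eq,
    show g * torC D c * X hW.good r 1 * (g * torC D c)⁻¹ =
      g * (torC D c * X hW.good r 1 * (torC D c)⁻¹) * g⁻¹ by group,
    torC_conj_X hW.good, hs] at e1
  have e2 := congrArg (fun g : GL D.Idx F => (g : Matrix D.Idx D.Idx F)) e1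
  obtain ⟨i, hi⟩ := hW.toGoodUni.exists_coroot_ne F (π r)
  have e3 := congrFun (congrFun e2 (Sum.inl i)) (Sum.inr (π r).rev)
  simp only [coe_X, xR_entry_coroot hW.good, if_pos, mul_one] at e3
  have e4 := mul_right_cancel₀ hi e3
  rw [mul_comm] at e4
  exact Units.ext (mul_right_cancel₀ s.ne_zero e4).symm

/-- **An element commuting with a separating family of torus elements** is monomial. -/
theorem mem_monomial_of_commute {C : Weyl.Cert D.rank} {M : CoxeterMatrix (Fin D.rank)}
    {R : Weyl.RootTable} (hW : GoodWeyl D) (h : Weyl.RootGood C M R) {ι : Type*}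
    {c : ι → Fin D.rank → Fˣ} (hc : ∀ r : Root D, ∃ i, torVal (c i) (Sum.inr r) ≠ 1)
    {g : GL D.Idx F} (hg : g ∈ D.group F) (he : ∀ i, Commute (torC D (c i)) g) :
    g ∈ D.monomialSubgroup F := by
  obtain ⟨⟨w, b, u⟩, ⟨hb, hu, e⟩, -⟩ := existsUnique_form hW h hg
  dsimp only at hb hu e
  obtain ⟨v, hv, d, hd, rfl⟩ := (mem_borel_iff hW).1 hb
  subst e
  have hp := fun i => commute_parts hW h (torC_mem_diag hW (c i)) hv hd hu hg (he i)
  rw [eq_one_of_commute_family hW hc hv fun i => (hp i).2.1,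
    eq_one_of_commute_family hW hc (uW_le_pos hW h w hu) fun i => (hp i).1, one_mul, mul_one]
  exact mul_mem (diag_le_monomial D hd) (nW_mem hW h w)

end CfsgLib.TwoCentralDirect
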