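import Cfsg.Agent.ChevOddInvol.Torus

/-!
# Certificates for the exceptional groups

The involutions of the torus are sign vectors on the simple roots, permuted by products of simple
reflections along given nodes.  A certificate splits the vectors into pieces connected under these
permutations; every piece of odd size has a marked vector which is a sum of squares fixed by its
roots, and whose stabiliser splits the other vectors into pieces of even size.
-/

set_option autoImplicit false

namespace CfsgLib.TwoCentralDirect

open Cfsg.Lie CfsgLib.Chevalley CfsgLib.ChevOddInvol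

/-- A connected piece: a vector and steps `(new, old, generator)`. -/
structure Piece where
  /-- the marked vector -/
  head : ℕ
  /-- the steps -/
  rest : List (ℕ × ℕ × ℕ)

namespace Piece

/-- The vectors of a piece. -/
def elems (B : Piece) : List ℕ := B.head :: B.rest.map Prod.fst

/-- The check that each vector is the image of an earlier one. -/
def chainOk (A : ℕ → ℕ → ℕ) (ng : ℕ) : List ℕ → List (ℕ × ℕ × ℕ) → Bool
  | _, [] => true
  | seen, (b, p, k) :: l =>
    decide (k < ng) && seen.contains p && A k p == b && chainOk A ng (b :: seen) l

theorem chainOk_mem {A : ℕ → ℕ → ℕ} {ng : ℕ} {S : ℕ → Prop} {h : ℕ} :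
    ∀ (l : List (ℕ × ℕ × ℕ)) (seen : List ℕ), chainOk A ng seen l = true →
      (∀ b ∈ seen, (S h ↔ S b)) → (∀ k < ng, ∀ b ∈ seen ++ l.map Prod.fst, (S b ↔ S (A k b))) →
      ∀ b ∈ l.map Prod.fst, (S h ↔ S b)
  | [], _, _, _, _ => fun b hb => absurd hb List.not_mem_nil
  | (b, p, k) :: l, seen, hok, hseen, hinv => by
    simp only [chainOk, Bool.and_eq_true, decide_eq_true_eq, List.contains_iff_mem, beq_iff_eq] at hok
    obtain ⟨⟨⟨hk, hp⟩, he⟩, hl⟩ := hok
    have hb : S h ↔ S b :=
      (hseen p hp).trans ((hinv k hk p (List.mem_append_left _ hp)).trans (by rw [he]))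
    intro x hx
    rcases List.mem_cons.1 hx with rfl | hx
    · exact hb
    · refine chainOk_mem l (b :: seen) hl (fun y hy => ?_) (fun j hj y hy => hinv j hj y ?_) x hx
      · rcases List.mem_cons.1 hy with rfl | hy
        · exact hb
        · exact hseen y hy
      · simp only [List.map_cons, List.mem_append, List.mem_cons] at hy ⊢
        tauto

/-- The check that the pieces are connected and partition the vectors of a predicate. -/
def coverOk (n : ℕ) (pred : ℕ → Bool) (A : ℕ → ℕ → ℕ) (ng : ℕ) (L : List Piece) : Bool :=
  (L.all fun B => chainOk A ng [B.head] B.rest) && decide (L.flatMap elems).Nodup &&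
    (L.flatMap elems).all (fun b => decide (b < n) && pred b) &&
    (List.range n).all fun b => !pred b || (L.flatMap elems).contains b

theorem countP_even {A : ℕ → ℕ → ℕ} {ng : ℕ} (s : ℕ → Bool) : ∀ L : List Piece,
    (∀ B ∈ L, chainOk A ng [B.head] B.rest = true ∧ ¬ (s B.head = true ∧ Odd B.elems.length)) →
    (∀ k < ng, ∀ b ∈ L.flatMap elems, (s b = true ↔ s (A k b) = true)) →
    Even ((L.flatMap elems).countP s)
  | [], _, _ => by simp
  | B :: L, hok, hinv => by
    rw [List.flatMap_cons, List.countP_append]
    refine Even.add ?_ (countP_even s L (fun C hC => hok C (List.mem_cons_of_mem _ hC))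
      fun k hk b hb => hinv k hk b (by rw [List.flatMap_cons]; exact List.mem_append_right _ hb))
    obtain ⟨hc, ho⟩ := hok B List.mem_cons_self
    have hall : ∀ b ∈ B.elems, (s B.head = true ↔ s b = true) := by
      intro b hb
      rcases List.mem_cons.1 hb with rfl | hb
      · exact Iff.rfl
      · refine chainOk_mem (S := fun x => s x = true) B.rest [B.head] hc (fun y hy => ?_)
          (fun k hk y hy => hinv k hk y ?_) b hb
        · rw [List.mem_singleton.1 hy]
        · rw [List.flatMap_cons]
          exact List.mem_append_left _ hy
    cases hs : s B.head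
    · rw [List.countP_eq_zero.2 fun b hb e => by
        have := (hall b hb).2 e
        rw [hs] at this
        exact absurd this Bool.false_ne_true]
      exact ⟨0, rfl⟩
    · rw [List.countP_eq_length.2 fun b hb => (hall b hb).1 hs]
      exact Nat.not_odd_iff_even.1 fun h => ho ⟨hs, h⟩

/-- An invariant set of odd size contains the marked vector of a piece of odd size. -/
theorem exists_odd {A : ℕ → ℕ → ℕ} {n ng : ℕ} {pred : ℕ → Bool} {L : List Piece}
    (hok : coverOk n pred A ng L = true) (S : Finset ℕ)
    (hS : ∀ b ∈ S, b < n ∧ pred b = true) (hodd : Odd S.card)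
    (hinv : ∀ k < ng, ∀ b, b < n → pred b = true → (b ∈ S ↔ A k b ∈ S)) :
    ∃ B ∈ L, B.head ∈ S ∧ Odd B.elems.length := by
  simp only [coverOk, Bool.and_eq_true, List.all_eq_true, decide_eq_true_eq, Bool.or_eq_true,
    Bool.not_eq_true', List.mem_range, List.contains_iff_mem] at hok
  obtain ⟨⟨⟨hc, hnd⟩, hin⟩, hcov⟩ := hok
  by_contra hcon
  push Not at hcon
  have hev := countP_even (A := A) (ng := ng) (fun b => decide (b ∈ S)) L (fun B hB => ⟨hc B hB,
    fun h => hcon B hB (of_decide_eq_true h.1) h.2⟩) fun k hk b hb => by
      simp only [decide_eq_true_eq]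
      exact hinv k hk b (hin b hb).1 (hin b hb).2
  have heq : (L.flatMap elems).countP (fun b => decide (b ∈ S)) = S.card := by
    rw [List.countP_eq_length_filter, ← List.toFinset_card_of_nodup (hnd.filter _)]
    congr 1
    ext b
    simp only [List.mem_toFinset, List.mem_filter, decide_eq_true_eq]
    refine ⟨fun h => h.2, fun h => ⟨?_, h⟩⟩
    rcases hcov b (hS b h).1 with e | e
    · rw [(hS b h).2] at e; exact absurd e (by simp)
    · exact e
  exact Nat.not_odd_iff_even.2 (heq ▸ hev) hodd

end Piece

/-- A piece with the data showing that it is harmless. -/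
structure Orbit where
  /-- the piece -/
  piece : Piece
  /-- nodes whose squares sum to the marked vector and which fix it -/
  wit : List ℕ
  /-- words fixing the marked vector -/
  gens : List (List ℕ)
  /-- the pieces of the stabiliser -/
  sub : List Piece

/-- A certificate. -/
structure ExcCert (D : ChevalleyDatum) where
  /-- parities of the roots -/
  masks : List ℕ
  /-- the nodes -/
  nodes : List (List (Fin D.rank))
  /-- the vectors of the group -/
  inv : ℕ → Bool
  /-- a symmetry of the roots commuting with the group -/
  sym : List ℕ
  /-- the pieces -/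
  orbits : List Orbit

namespace ExcCert

variable {D : ChevalleyDatum} (C : ExcCert D)

/-- The image of a vector under the reflections of a node. -/
def act (o b : ℕ) : ℕ :=
  (C.nodes.getD o []).foldr (fun (i : Fin D.rank) x => stepBits D C.masks i x) b

/-- The image of a vector under a word of nodes. -/
def actW (w : List ℕ) (b : ℕ) : ℕ := w.foldr C.act b

/-- The vector of the square of a simple reflection. -/
def hv (i : ℕ) : ℕ :=
  ((List.range D.rank).map fun j => if D.cartan i (D.simple j) % 2 = 1 then 2 ^ j else 0).sum

/-- The vector of the square of a node. -/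
def hvec (o : ℕ) : ℕ :=
  (C.nodes.getD o []).foldr (fun (i : Fin D.rank) x => hv (D := D) i ^^^ x) 0

/-- The symmetry. -/
def sigma (r : ℕ) : ℕ := C.sym.getD r r

/-- The signs of a root on the squares of the nodes. -/
def signature (r : ℕ) : List Bool :=
  (List.range C.nodes.length).map fun o => sgn D C.masks (C.hvec o) r

/-- Whether a root may be appended to the images of the first simple roots. -/
def fits (L : List ℕ) (r : ℕ) : Bool :=
  (List.range L.length).all fun j =>
    D.pairing (L.getD j 0) r == D.pairing (D.simple j) (D.simple L.length) &&
      D.pairing r (L.getD j 0) == D.pairing (D.simple L.length) (D.simple j) &&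
      (C.sigma (D.simple j) != D.simple L.length || r == C.sigma (L.getD j 0)) &&
      (C.sigma (D.simple L.length) != D.simple j || L.getD j 0 == C.sigma r)

/-- The possible images of the first `n` simple roots. -/
def tuples : ℕ → List (List ℕ)
  | 0 => [[]]
  | n + 1 => (tuples n).flatMap fun L =>
      (((List.range D.nroots).filter fun r => C.signature r == C.signature (D.simple n)).filter
        fun r => C.fits L r).map fun r => L ++ [r]

/-- The simple roots. -/
def simples (D : ChevalleyDatum) : List ℕ := (List.range D.rank).map D.simple

/-- The check that the squares separate the roots and determine the permutation up to sign. -/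
def sepOk : Bool :=
  (List.range D.nroots).all (fun r => (C.signature r).contains true) &&
    (C.tuples D.rank).all fun L => L.all (fun r => (simples D).contains r) ||
      L.all fun r => (simples D).contains (D.nroots - 1 - r)

/-- The check of the steps. -/
def stepsOk : Bool :=
  (List.range D.rank).all fun i => (List.range (2 ^ D.rank)).all fun b =>
    stepOk D C.masks i b (stepBits D C.masks i b)

/-- The check of the first pieces. -/
def topOk : Bool :=
  Piece.coverOk (2 ^ D.rank) (fun b => C.inv b && b != 0) C.act C.nodes.length
    (C.orbits.map Orbit.piece)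

/-- The check of one piece. -/
def orbitOk (O : Orbit) : Bool :=
  decide (Even O.piece.elems.length) ||
    (O.wit.all (fun o => decide (o < C.nodes.length) && C.act o O.piece.head == O.piece.head) &&
      O.wit.foldr (fun o x => C.hvec o ^^^ x) 0 == O.piece.head &&
      O.gens.all (fun w => w.all (fun o => decide (o < C.nodes.length)) &&
        C.actW w O.piece.head == O.piece.head) &&
      Piece.coverOk (2 ^ D.rank) (fun b => C.inv b && b != 0 && b != O.piece.head)
        (fun k => C.actW (O.gens.getD k [])) O.gens.length O.sub &&
      O.sub.all fun B => decide (Even B.elems.length))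

/-- The check of a certificate. -/
structure Ok : Prop where
  mask : maskOk D C.masks = true
  steps : C.stepsOk = true
  sep : C.sepOk = true
  top : C.topOk = true
  orbit : C.orbits.all C.orbitOk = true

end ExcCert

end CfsgLib.TwoCentralDirect
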