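import Cfsg.Agent.TwoCentralDirect.ExcCert
import Cfsg.Prelude.Def_ChevE6

/-! The certificate of one exceptional type (generated data, checked by the kernel). -/

set_option autoImplicit false

namespace CfsgLib.TwoCentralDirect

open Cfsg.Lie

/-- The certificate. -/
def excE6 : ExcCert chevE6 where
  masks := [41, 43, 35, 51, 19, 39, 55, 23, 63, 31, 15, 61, 29, 13, 5, 1, 38, 54, 22, 62, 30, 14, 58, 26, 10, 2, 60, 28, 12, 4, 56, 24, 8, 48, 16, 32, 32, 16, 48, 8, 24, 56, 4, 12, 28, 60, 2, 10, 26, 58, 14, 30, 62, 22, 54, 38, 1, 5, 13, 29, 61, 15, 31, 63, 23, 55, 39, 19, 51, 35, 43, 41]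
  nodes := [[⟨0, by decide⟩], [⟨1, by decide⟩], [⟨2, by decide⟩], [⟨3, by decide⟩], [⟨4, by decide⟩], [⟨5, by decide⟩]]
  inv := fun _ => true
  sym := []
  orbits := [⟨⟨1, [(5, 1, 0), (12, 5, 2), (26, 12, 3), (18, 26, 1), (50, 26, 4), (58, 18, 4), (34, 50, 5), (44, 58, 3), (42, 58, 5), (37, 44, 2), (60, 44, 5), (33, 37, 0), (53, 37, 5), (20, 60, 4), (49, 33, 5), (29, 53, 4), (25, 49, 4), (11, 29, 3), (15, 25, 3), (3, 11, 1), (7, 15, 1), (6, 15, 2), (14, 7, 2), (24, 14, 3), (48, 24, 4), (32, 48, 5)]⟩, [1, 2], [[1], [2], [3], [4], [5]], [⟨2, [(10, 2, 0), (28, 10, 2), (21, 28, 1), (52, 28, 3), (61, 21, 3), (36, 52, 4), (43, 61, 2), (45, 61, 4), (35, 43, 0), (59, 43, 4), (51, 35, 4), (19, 59, 3), (27, 51, 3), (13, 27, 2), (4, 13, 1)]⟩, ⟨3, [(11, 3, 0), (29, 11, 2), (20, 29, 1), (53, 29, 3), (60, 20, 3), (37, 53, 4), (42, 60, 2), (44, 60, 4), (34, 42, 0), (58, 42,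 4), (50, 34, 4), (18, 58, 3), (26, 50, 3), (12, 26, 2), (5, 12, 1)]⟩, ⟨6, [(14, 6, 0), (15, 6, 1), (7, 14, 1), (24, 14, 2), (25, 15, 2), (48, 24, 3), (49, 25, 3), (32, 48, 4), (33, 49, 4)]⟩, ⟨8, [(30, 8, 2), (22, 30, 0), (23, 30, 1), (54, 30, 3), (31, 22, 1), (62, 22, 3), (63, 23, 3), (38, 54, 4), (9, 31, 2), (55, 31, 3), (40, 62, 2), (46, 62, 4), (41, 63, 2), (47, 63, 4), (39, 55, 4), (56, 40, 4), (57, 41, 4), (16, 56, 3), (17, 57, 3)]⟩]⟩,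
    ⟨⟨2, [(10, 2, 1), (28, 10, 3), (21, 28, 2), (52, 28, 4), (17, 21, 0), (61, 21, 4), (36, 52, 5), (57, 17, 4), (43, 61, 3), (45, 61, 5), (47, 57, 3), (41, 57, 5), (35, 43, 1), (59, 43, 5), (39, 47, 1), (38, 47, 2), (63, 47, 5), (51, 35, 5), (19, 59, 4), (46, 39, 2), (55, 39, 5), (54, 38, 5), (23, 63, 4), (27, 51, 4), (56, 46, 3), (62, 46, 5), (31, 55, 4), (30, 54, 4), (13, 27, 3), (16, 56, 4), (40, 56, 5), (22, 62, 4), (9, 31, 3), (8, 30, 3), (4, 13, 2)]⟩, [], [], []⟩]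

theorem excE6_ok : excE6.Ok :=
  ⟨by decide +kernel, by decide +kernel, by decide +kernel, by decide +kernel, by decide +kernel⟩

end CfsgLib.TwoCentralDirect
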