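import Cfsg.Agent.TwoCentralDirect.ExcCert
import Cfsg.Prelude.Def_ChevE7

/-! The certificate of one exceptional type (generated data, checked by the kernel). -/

set_option autoImplicit false

namespace CfsgLib.TwoCentralDirect

open Cfsg.Lie

/-- The certificate. -/
def excE7 : ExcCert chevE7 where
  masks := [84, 85, 81, 89, 73, 105, 41, 91, 75, 107, 43, 67, 99, 35, 115, 51, 19, 71, 103, 39, 119, 55, 23, 127, 63, 31, 15, 125, 61, 29, 13, 5, 1, 70, 102, 38, 118, 54, 22, 126, 62, 30, 14, 122, 58, 26, 10, 2, 124, 60, 28, 12, 4, 120, 56, 24, 8, 112, 48, 16, 96, 32, 64, 64, 32, 96, 16, 48, 112, 8, 24, 56, 120, 4, 12, 28, 60, 124, 2, 10, 26, 58, 122, 14, 30, 62, 126, 22, 54, 118, 38, 102, 70, 1, 5, 13, 29, 61, 125, 15, 31, 63, 127, 23, 55, 119, 39, 103, 71, 19, 51, 115, 35, 99, 67, 43, 107, 75, 91, 41, 105, 73, 89, 81, 85, 84]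
  nodes := [[⟨0, by decide⟩], [⟨1, by decide⟩], [⟨2, by decide⟩], [⟨3, by decide⟩], [⟨4, by decide⟩], [⟨5, by decide⟩], [⟨6, by decide⟩]]
  inv := fun _ => true
  sym := []
  orbits := [⟨⟨1, [(5, 1, 0), (12, 5, 2), (26, 12, 3), (18, 26, 1), (50, 26, 4), (58, 18, 4), (98, 50, 5), (44, 58, 3), (106, 58, 5), (66, 98, 6), (37, 44, 2), (124, 44, 5), (74, 106, 6), (33, 37, 0), (117, 37, 5), (84, 124, 4), (92, 124, 6), (113, 33, 5), (93, 117, 4), (85, 117, 6), (116, 84, 6), (89, 113, 4), (81, 113, 6), (75, 93, 3), (125, 93, 6), (36, 116, 5), (79, 89, 3), (121, 89, 6), (67, 75, 1), (107, 75, 6), (45, 125, 5), (71, 79, 1), (70, 79, 2), (111, 79, 6), (41, 121, 5), (99, 67, 6), (59, 107, 5), (78, 71, 2), (103, 71, 6), (102, 70, 6), (63, 111, 5), (51, 99, 5), (19, 59, 4), (88, 78, 3), (110, 78, 6), (55, 103, 5), (54, 102, 5), (23, 63, 4), (27, 51, 4), (112, 88, 4), (120, 88, 6), (62, 110,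 5), (31, 55, 4), (30, 54, 4), (13, 27, 3), (32, 112, 5), (80, 112, 6), (40, 120, 5), (22, 62, 4), (9, 31, 3), (8, 30, 3), (4, 13, 2)]⟩, [1, 2], [[1], [2], [3], [4], [5], [6]], [⟨2, [(10, 2, 0), (28, 10, 2), (21, 28, 1), (52, 28, 3), (61, 21, 3), (100, 52, 4), (43, 61, 2), (109, 61, 4), (68, 100, 5), (35, 43, 0), (123, 43, 4), (77, 109, 5), (115, 35, 4), (83, 123, 3), (91, 123, 5)]⟩, ⟨3, [(11, 3, 0), (29, 11, 2), (20, 29, 1), (53, 29, 3), (60, 20, 3), (101, 53, 4), (42, 60, 2), (108, 60, 4), (69, 101, 5), (34, 42, 0), (122, 42, 4), (76, 108, 5), (114, 34, 4), (82, 122, 3), (90, 122, 5)]⟩, ⟨4, [(13, 4, 1), (27, 13, 2), (19, 27, 0), (51, 27, 3), (59, 19, 3), (99, 51, 4), (45, 59, 2), (107, 59, 4), (67, 99, 5), (36, 45, 1), (125, 45, 4), (75, 107, 5), (116, 36, 4), (85, 125, 3), (93, 125, 5), (92, 116, 3), (84, 116, 5), (117, 85, 5), (74, 92, 2), (124, 92, 5), (37, 117, 4), (66,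 74, 0), (106, 74, 5), (44, 124, 4), (98, 66, 5), (58, 106, 4), (50, 98, 4), (18, 58, 3), (26, 50, 3), (12, 26, 2), (5, 12, 1)]⟩, ⟨6, [(14, 6, 0), (15, 6, 1), (7, 14, 1), (24, 14, 2), (25, 15, 2), (48, 24, 3), (49, 25, 3), (96, 48, 4), (97, 49, 4), (64, 96, 5), (65, 97, 5)]⟩, ⟨8, [(30, 8, 2), (22, 30, 0), (23, 30, 1), (54, 30, 3), (31, 22, 1), (62, 22, 3), (63, 23, 3), (102, 54, 4), (9, 31, 2), (55, 31, 3), (40, 62, 2), (110, 62, 4), (41, 63, 2), (111, 63, 4), (70, 102, 5), (103, 55, 4), (120, 40, 4), (78, 110, 5), (121, 41, 4), (79, 111, 5), (71, 103, 5), (80, 120, 3), (88, 120, 5), (81, 121, 3), (89, 121, 5), (112, 80, 5), (113, 81, 5), (32, 112, 4), (33, 113, 4)]⟩, ⟨16, [(56, 16, 3), (46, 56, 2), (104, 56, 4), (38, 46, 0), (39, 46, 1), (126, 46, 4), (72, 104, 5), (47, 38, 1), (118, 38, 4), (119, 39, 4), (86, 126, 3), (94, 126, 5), (57, 47, 2), (127, 47, 4), (95, 119, 3), (87,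 119, 5), (17, 57, 3), (105, 57, 4), (73, 95, 2)]⟩]⟩,
    ⟨⟨2, [(10, 2, 1), (28, 10, 3), (21, 28, 2), (52, 28, 4), (17, 21, 0), (61, 21, 4), (100, 52, 5), (57, 17, 4), (43, 61, 3), (109, 61, 5), (68, 100, 6), (47, 57, 3), (105, 57, 5), (35, 43, 1), (123, 43, 5), (77, 109, 6), (39, 47, 1), (38, 47, 2), (127, 47, 5), (73, 105, 6), (115, 35, 5), (83, 123, 4), (91, 123, 6), (46, 39, 2), (119, 39, 5), (118, 38, 5), (87, 127, 4), (95, 127, 6), (56, 46, 3), (126, 46, 5), (94, 118, 4), (86, 118, 6), (16, 56, 4), (104, 56, 5), (72, 94, 3)]⟩, [], [], []⟩,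
    ⟨⟨3, [(7, 3, 0), (11, 3, 1), (15, 7, 1), (14, 7, 2), (29, 11, 3), (6, 15, 2), (25, 15, 3), (24, 14, 3), (20, 29, 2), (53, 29, 4), (49, 25, 4), (48, 24, 4), (60, 20, 4), (101, 53, 5), (97, 49, 5), (96, 48, 5), (42, 60, 3), (108, 60, 5), (69, 101, 6), (65, 97, 6), (64, 96, 6), (34, 42, 1), (122, 42, 5), (76, 108, 6), (114, 34, 5), (82, 122, 4), (90, 122, 6)]⟩, [], [], []⟩]

theorem excE7_ok : excE7.Ok :=
  ⟨by decide +kernel, by decide +kernel, by decide +kernel, by decide +kernel, by decide +kernel⟩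

end CfsgLib.TwoCentralDirect
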