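import Cfsg.Agent.TwoCentralDirect.ExcCert
import Cfsg.Prelude.Def_ChevF4

/-! The certificate of one exceptional type (generated data, checked by the kernel). -/

set_option autoImplicit false

namespace CfsgLib.TwoCentralDirect

open Cfsg.Lie

/-- The certificate. -/
def excF4 : ExcCert chevF4 where
  masks := [4, 12, 8, 10, 8, 12, 4, 11, 9, 13, 5, 15, 7, 3, 1, 8, 12, 4, 14, 6, 2, 12, 4, 8, 8, 4, 12, 2, 6, 14, 4, 12, 8, 1, 3, 7, 15, 5, 13, 9, 11, 4, 12, 8, 10, 8, 12, 4]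
  nodes := [[⟨0, by decide⟩], [⟨1, by decide⟩], [⟨2, by decide⟩], [⟨3, by decide⟩]]
  inv := fun _ => true
  sym := []
  orbits := [⟨⟨1, [(3, 1, 0), (2, 3, 1)]⟩, [1], [[1], [2], [3], [0, 1, 2, 1, 0]], [⟨2, [(3, 2, 0)]⟩, ⟨4, [(14, 4, 1), (13, 4, 3), (15, 14, 0), (10, 14, 2), (7, 14, 3), (9, 13, 2), (5, 15, 1), (11, 15, 2), (6, 15, 3), (12, 5, 3), (8, 12, 2)]⟩]⟩,
    ⟨⟨4, [(14, 4, 2), (15, 14, 1), (10, 14, 3), (13, 15, 0), (5, 15, 2), (11, 15, 3), (7, 13, 2), (9, 13, 3), (6, 7, 1), (12, 6, 2), (8, 12, 3)]⟩, [], [], []⟩]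

theorem excF4_ok : excF4.Ok :=
  ⟨by decide +kernel, by decide +kernel, by decide +kernel, by decide +kernel, by decide +kernel⟩

end CfsgLib.TwoCentralDirect
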