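import Cfsg.Agent.TwoCentralDirect.ExcCert
import Cfsg.Prelude.Def_ChevG2

/-! The certificate of one exceptional type (generated data, checked by the kernel). -/

set_option autoImplicit false

namespace CfsgLib.TwoCentralDirect

open Cfsg.Lie

/-- The certificate. -/
def excG2 : ExcCert chevG2 where
  masks := [1, 3, 2, 3, 1, 2, 2, 1, 3, 2, 3, 1]
  nodes := [[⟨0, by decide⟩], [⟨1, by decide⟩]]
  inv := fun _ => true
  sym := []
  orbits := [⟨⟨1, [(3, 1, 0), (2, 3, 1)]⟩, [1], [[1]], [⟨2, [(3, 2, 0)]⟩]⟩]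

theorem excG2_ok : excG2.Ok :=
  ⟨by decide +kernel, by decide +kernel, by decide +kernel, by decide +kernel, by decide +kernel⟩

end CfsgLib.TwoCentralDirect
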