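import Cfsg.Agent.TwoCentralDirect.ExcBruhat
import Cfsg.Agent.TwoCentralDirect.ExcCert
import Cfsg.Agent.TwoCentralDirect.Bad
import Cfsg.Agent.ChevOddInvol.Reflect

/-!
# Exceptional groups in odd characteristic have no bad triple

An element commuting with a Sylow 2-subgroup of the group generated by the simple monomial elements
is monomial and its Weyl element is `±1`.  So of three bad involutions two products are torus
involutions fixed by that 2-subgroup, and these have an orbit of odd size, which the certificate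
excludes.
-/

set_option autoImplicit false
set_option linter.style.haveILetI false

namespace CfsgLib.TwoCentralDirect

open Cfsg.Lie CfsgLib.Chevalley CfsgLib.ChevOddInvol CfsgLib.ChevTorus

/-- A class under a group containing a subgroup of odd index that fixes a member has odd size. -/
theorem odd_class {Γ : Type*} [Group Γ] {K Q : Subgroup Γ} [Finite K]
    (hQ : Odd (Q.relIndex K)) {y : Γ} (hy : ∀ q ∈ Q, Commute q y) :
    Odd {z : Γ | ∃ k ∈ K, k * y * k⁻¹ = z}.ncard := by
  letI : MulAction ↥K Γ := MulAction.compHom Γ ((MulAut.conj : Γ →* MulAut Γ).comp K.subtype)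
  have he : {z : Γ | ∃ k ∈ K, k * y * k⁻¹ = z} = MulAction.orbit ↥K y := by
    ext z
    constructor
    · rintro ⟨k, hk, e⟩; exact ⟨⟨k, hk⟩, e⟩
    · rintro ⟨⟨k, hk⟩, e⟩; exact ⟨k, hk, e⟩
  rw [he, ← MulAction.index_stabilizer]
  refine hQ.of_dvd_nat (Subgroup.index_dvd_of_le fun k (hk : (k : Γ) ∈ Q) => ?_)
  show (k : Γ) * y * (k : Γ)⁻¹ = y
  rw [(hy (k : Γ) hk).eq, mul_inv_cancel_right]

variable {D : ChevalleyDatum} {F : Type*} [Field F]

theorem sum_bits_spec (f : ℕ → Bool) : ∀ n,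
    ((List.range n).map fun j => if f j then 2 ^ j else 0).sum < 2 ^ n ∧
      ∀ j < n, (((List.range n).map fun j => if f j then 2 ^ j else 0).sum).testBit j = f j
  | 0 => ⟨by simp, fun j hj => absurd hj (Nat.not_lt_zero j)⟩
  | n + 1 => by
    obtain ⟨hlt, hbit⟩ := sum_bits_spec f n
    rw [List.range_succ, List.map_append, List.sum_append, List.map_singleton, List.sum_singleton]
    have hp : 2 ^ (n + 1) = 2 ^ n + 2 ^ n := by rw [pow_succ]; omega
    cases hfn : f n
    · simp only [Bool.false_eq_true, if_false, add_zero]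
      refine ⟨by omega, fun j hj => ?_⟩
      rcases Nat.lt_succ_iff_lt_or_eq.1 hj with h1 | rfl
      · exact hbit j h1
      · rw [hfn, Nat.testBit_lt_two_pow hlt]
    · simp only [if_true]
      refine ⟨by omega, fun j hj => ?_⟩
      rw [add_comm]
      rcases Nat.lt_succ_iff_lt_or_eq.1 hj with h1 | rfl
      · rw [Nat.testBit_two_pow_add_gt h1, hbit j h1]
      · rw [hfn, Nat.testBit_two_pow_add_eq, Nat.testBit_lt_two_pow hlt]; rfl

theorem parity_comm : ∀ n a b : ℕ, parity n a b = parity n b a := by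
  intro n
  induction n with
  | zero => intros; rfl
  | succ n ih => intro a b; rw [parity, parity, ih, Bool.and_comm]

theorem tInv_mul (masks : List ℕ) (a b : ℕ) :
    tInv D F masks a * tInv D F masks b = tInv D F masks (a ^^^ b) := by
  rw [tInv, tInv, tor_mul, tInv]
  congr 1
  funext r
  rw [unitOf_mul]
  congr 1
  simp only [ChevOddInvol.sgn]
  rw [parity_comm _ _ (a ^^^ b), parity_xor, parity_comm _ a, parity_comm _ b]

theorem tInv_inj (hW : GoodWeyl D) (h2 : (2 : F) ≠ 0) {masks : List ℕ}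
    (hok : maskOk D masks = true) {a b : ℕ} (ha : a < 2 ^ D.rank) (hb : b < 2 ^ D.rank)
    (e : tInv D F masks a = tInv D F masks b) : a = b := by
  refine Nat.eq_of_testBit_eq fun j => ?_
  by_cases hj : j < D.rank
  · have := unitOf_injective h2 (congrFun (tor_injective e) (pRoot hW ⟨j, hj⟩))
    rwa [sgn_simple hW hok, sgn_simple hW hok] at this
  · have hp : 2 ^ D.rank ≤ 2 ^ j := Nat.pow_le_pow_right (by norm_num) (by omega)
    rw [Nat.testBit_lt_two_pow (lt_of_lt_of_le ha hp), Nat.testBit_lt_two_pow (lt_of_lt_of_le hb hp)]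

namespace ExcCert

variable (hW : GoodWeyl D) (C : ExcCert D)

/-- The torus element of a vector. -/
abbrev tau (F : Type*) [Field F] (b : ℕ) : GL D.Idx F := tInv D F C.masks b

/-- The monomial element of a node. -/
def nodeW (F : Type*) [Field F] (o : ℕ) : GL D.Idx F :=
  ((C.nodes.getD o []).map fun i => (nR hW i : GL D.Idx F)).prod

/-- The hypotheses on a group covered by a certificate. -/
structure Covers (G : Subgroup (GL D.Idx F)) : Prop where
  ok : C.Ok
  two : (2 : F) ≠ 0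
  le : G ≤ D.group F
  node_mem : ∀ o < C.nodes.length, C.nodeW hW F o ∈ G
  node_sq : ∀ o < C.nodes.length, C.nodeW hW F o * C.nodeW hW F o =
    ((C.nodes.getD o []).map fun i => hT F (pRoot hW i) (-1)).prod
  inv_of_mem : ∀ b < 2 ^ D.rank, C.tau F b ∈ D.diagonalSubgroup F → C.tau F b ∈ G → C.inv b = true
  comm : ∀ g ∈ G, ∀ π : Equiv.Perm (Root D), MonBy hW g π →
    ∀ r s : Root D, C.sigma r = s → C.sigma (π r) = (π s : ℕ)

/-- The group generated by the node elements. -/
def monGroup (F : Type*) [Field F] : Subgroup (GL D.Idx F) :=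
  Subgroup.closure {g | ∃ o < C.nodes.length, C.nodeW hW F o = g}

variable {C hW}

theorem nodeW_mem_monomial (o : ℕ) : C.nodeW hW F o ∈ D.monomialSubgroup F :=
  Subgroup.list_prod_mem _ fun x hx => by
    obtain ⟨i, -, rfl⟩ := List.mem_map.1 hx
    exact Chevalley.nR_mem_monomial hW i

theorem monGroup_le_monomial : C.monGroup hW F ≤ D.monomialSubgroup F := by
  refine (Subgroup.closure_le _).2 ?_
  rintro _ ⟨o, -, rfl⟩
  exact nodeW_mem_monomial o

theorem nodeW_mem_monGroup {o : ℕ} (ho : o < C.nodes.length) :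
    C.nodeW hW F o ∈ C.monGroup hW F :=
  Subgroup.subset_closure ⟨o, ho, rfl⟩

theorem conj_mem_diag (hW : GoodWeyl D) {m x : GL D.Idx F} (hm : m ∈ D.monomialSubgroup F)
    (hx : x ∈ D.diagonalSubgroup F) : m * x * m⁻¹ ∈ D.diagonalSubgroup F :=
  (Subgroup.mem_normalizer_iff.1 (monomial_le_normalizer hW hm) x).1 hx

variable {G : Subgroup (GL D.Idx F)} (S : C.Covers hW G)
include S

theorem monGroup_le : C.monGroup hW F ≤ G := by
  refine (Subgroup.closure_le _).2 ?_
  rintro _ ⟨o, ho, rfl⟩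
  exact S.node_mem o ho

theorem act_spec {o b : ℕ} (hb : b < 2 ^ D.rank) :
    C.act o b < 2 ^ D.rank ∧
      C.nodeW hW F o * C.tau F b * (C.nodeW hW F o)⁻¹ = C.tau F (C.act o b) := by
  unfold ExcCert.act ExcCert.nodeW
  induction C.nodes.getD o [] with
  | nil => simp [hb]
  | cons i L ih =>
    obtain ⟨hlt, e⟩ := ih
    set b' := L.foldr (fun (i : Fin D.rank) x => stepBits D C.masks i x) b
    have hst : stepOk D C.masks i b' (stepBits D C.masks i b') = true := by
      have := S.ok.steps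
      simp only [stepsOk, List.all_eq_true, List.mem_range] at this
      exact this i i.isLt b' hlt
    rw [List.foldr_cons, List.map_cons, List.prod_cons]
    refine ⟨?_, ?_⟩
    · simp only [stepOk, Bool.and_eq_true, decide_eq_true_eq] at hst
      exact hst.1.2
    · show _ = tInv D F C.masks (stepBits D C.masks i b')
      rw [← nR_conj_tInv hW S.ok.mask hlt hst]
      show _ = _ * C.tau F b' * _
      rw [← e]
      group

theorem actW_spec {w : List ℕ} {b : ℕ} (hb : b < 2 ^ D.rank) :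
    C.actW w b < 2 ^ D.rank ∧
      (w.map (C.nodeW hW F)).prod * C.tau F b * (w.map (C.nodeW hW F)).prod⁻¹ =
        C.tau F (C.actW w b) := by
  induction w with
  | nil => simp [actW, hb]
  | cons o w ih =>
    obtain ⟨hlt, e⟩ := ih
    obtain ⟨h1, h2⟩ := act_spec S (o := o) hlt
    refine ⟨h1, ?_⟩
    rw [show C.actW (o :: w) b = C.act o (C.actW w b) from rfl, ← h2, ← e, List.map_cons,
      List.prod_cons]
    group

theorem hT_neg_one (i : Fin D.rank) :
    hv (D := D) i < 2 ^ D.rank ∧ hT F (pRoot hW i) (-1) = C.tau F (hv (D := D) i) := by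
  obtain ⟨hlt, hbit⟩ := sum_bits_spec (fun j => decide (D.cartan i (D.simple j) % 2 = 1)) D.rank
  simp only [decide_eq_true_eq] at hlt hbit
  refine ⟨hlt, ?_⟩
  obtain ⟨b, hb, e⟩ := exists_eq_tInv hW S.ok.mask (hT_mem_diagonal hW (pRoot hW i) (-1 : Fˣ))
    (by rw [hT_mul, neg_mul_neg, one_mul, hT_one])
  rw [e]
  congr 1
  refine Nat.eq_of_testBit_eq fun j => ?_
  by_cases hj : j < D.rank
  · have e' := congrFun (tor_injective e) (pRoot hW ⟨j, hj⟩)
    rw [sgn_simple hW S.ok.mask, hW.pairing_pRoot,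
      show (-1 : Fˣ) = unitOf F true from rfl, unitOf_zpow, Bool.and_true] at e'
    rw [hv, hbit j hj, ← unitOf_injective S.two e']
    rfl
  · have hp : 2 ^ D.rank ≤ 2 ^ j := Nat.pow_le_pow_right (by norm_num) (by omega)
    rw [Nat.testBit_lt_two_pow (lt_of_lt_of_le hb hp), Nat.testBit_lt_two_pow
      (lt_of_lt_of_le (show hv (D := D) i < _ from hlt) hp)]

theorem hvec_spec {o : ℕ} (ho : o < C.nodes.length) :
    C.hvec o < 2 ^ D.rank ∧ C.nodeW hW F o * C.nodeW hW F o = C.tau F (C.hvec o) := by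
  rw [S.node_sq o ho]
  unfold ExcCert.hvec
  induction C.nodes.getD o [] with
  | nil => exact ⟨Nat.two_pow_pos _, (tInv_zero C.masks).symm⟩
  | cons i L ih =>
    obtain ⟨h1, h2⟩ := hT_neg_one S i
    refine ⟨Nat.xor_lt_two_pow h1 ih.1, ?_⟩
    rw [List.map_cons, List.prod_cons, h2, ih.2, List.foldr_cons, tau, tau, tInv_mul]

theorem hvec_mem_diag {o : ℕ} (ho : o < C.nodes.length) :
    C.tau F (C.hvec o) ∈ D.diagonalSubgroup F := by
  rw [← (hvec_spec S ho).2, S.node_sq o ho]
  refine Subgroup.list_prod_mem _ fun x hx => ?_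
  obtain ⟨i, -, rfl⟩ := List.mem_map.1 hx
  exact hT_mem_diagonal hW _ _

omit S in
theorem tau_sq {b : ℕ} : C.tau F b * C.tau F b = 1 := by
  rw [tau, tInv_mul, Nat.xor_self, tInv_zero]

/-- The permutation of an element commuting with the squares of the nodes is plus or minus one. -/
theorem weyl_sign {C0 : Weyl.Cert D.rank} {M : CoxeterMatrix (Fin D.rank)} {R : Weyl.RootTable}
    (h : Weyl.RootGood C0 M R) {g : GL D.Idx F} (hg : g ∈ G)
    (he : ∀ o < C.nodes.length, Commute (C.tau F (C.hvec o)) g) :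
    ∃ hm : g ∈ D.monomialSubgroup F,
      (g ∈ D.diagonalSubgroup F) ∨ ∀ i : Fin D.rank, ∃ j : Fin D.rank,
        h.rootPerm (weylHom hW h ⟨g, hm⟩) (pRoot hW i) = (pRoot hW j).rev := by
  have hc : ∀ o : Fin C.nodes.length, ∃ c, torC D c = C.tau F (C.hvec o) := fun o => by
    have := hvec_mem_diag S o.isLt
    rw [diagonalSubgroup_eq_range hW] at this
    exact this
  choose c hc using hc
  have hval : ∀ (o : Fin C.nodes.length) (r : Root D),
      torVal (c o) (Sum.inr r) = unitOf F (ChevOddInvol.sgn D C.masks (C.hvec o) r) := fun o r => by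
    rw [← congrFun (tor_injective (hc o)) r]
    simp [torVal]
  have hsep := S.ok.sep
  simp only [sepOk, Bool.and_eq_true, List.all_eq_true, List.mem_range, Bool.or_eq_true,
    List.contains_iff_mem] at hsep
  obtain ⟨hnz, htup⟩ := hsep
  have hone : unitOf F true ≠ 1 := fun e =>
    absurd (unitOf_injective S.two (e.trans (show (1 : Fˣ) = unitOf F false from rfl))) (by simp)
  have hmon : g ∈ D.monomialSubgroup F := by
    refine mem_monomial_of_commute hW h (c := c) (fun r => ?_) (S.le hg)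
      (fun o => by rw [hc]; exact he o o.isLt)
    have := hnz r r.isLt
    simp only [signature, List.mem_map, List.mem_range] at this
    obtain ⟨o, ho, e⟩ := this
    exact ⟨⟨o, ho⟩, by rw [hval, e]; exact hone⟩
  refine ⟨hmon, ?_⟩
  set w := weylHom hW h ⟨g, hmon⟩
  have hπ : MonBy hW g (h.rootPerm w) := monBy_weylHom hW h ⟨g, hmon⟩
  have hsig : ∀ r : Root D, C.signature (h.rootPerm w r : ℕ) = C.signature r := fun r => by
    refine List.map_congr_left fun o ho => ?_
    have ho' := List.mem_range.1 ho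
    have := torVal_fix hW hπ (c := c ⟨o, ho'⟩) (by rw [hc]; exact he o ho') r
    rw [hval, hval] at this
    exact unitOf_injective S.two this
  let img : ℕ → ℕ := fun j =>
    if hj : j < D.rank then (h.rootPerm w (pRoot hW ⟨j, hj⟩) : ℕ) else 0
  have hget : ∀ n j : ℕ, j < n → ((List.range n).map img).getD j 0 = img j := fun n j hj => by
    simp [List.getD_eq_getElem?_getD, hj]
  have hmem : ∀ n ≤ D.rank, (List.range n).map img ∈ C.tuples n := by
    intro n
    induction n with
    | zero => intro _; exact List.mem_singleton_self _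
    | succ n ih =>
      intro hn
      rw [tuples, List.mem_flatMap]
      refine ⟨_, ih (by omega), List.mem_map.2 ⟨img n, ?_, ?_⟩⟩
      · have hn' : n < D.rank := by omega
        have e1 : img n = (h.rootPerm w (pRoot hW ⟨n, hn'⟩) : ℕ) := dif_pos hn'
        simp only [List.mem_filter, List.mem_range, beq_iff_eq, fits, List.all_eq_true,
          List.length_map, List.length_range, Bool.and_eq_true, Bool.or_eq_true, bne_iff_ne]
        refine ⟨⟨by rw [e1]; exact Fin.isLt _, by rw [e1, hsig]; rfl⟩, fun j hj => ?_⟩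
        have hj' : j < D.rank := by omega
        have e2 : img j = (h.rootPerm w (pRoot hW ⟨j, hj'⟩) : ℕ) := dif_pos hj'
        rw [hget n j hj, e1, e2]
        refine ⟨⟨⟨?_, ?_⟩, ?_⟩, ?_⟩
        · exact pairing_rootPerm hW h w _ _
        · exact pairing_rootPerm hW h w _ _
        · refine or_iff_not_imp_left.2 fun e => ?_
          exact (S.comm g hg _ hπ (pRoot hW ⟨j, hj'⟩) (pRoot hW ⟨n, hn'⟩) (not_not.1 e)).symm
        · refine or_iff_not_imp_left.2 fun e => ?_
          exact (S.comm g hg _ hπ (pRoot hW ⟨n, hn'⟩) (pRoot hW ⟨j, hj'⟩) (not_not.1 e)).symm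
      · simp [List.range_succ]
  rcases htup _ (hmem _ le_rfl) with hp | hn
  · left
    have hw1 : w = 1 := h.eq_one_of_invSet_empty (h.invSet_eq_empty fun i => by
      have hi := hp (img i) (List.mem_map.2 ⟨i, List.mem_range.2 i.isLt, rfl⟩)
      simp only [simples, List.mem_map, List.mem_range] at hi
      obtain ⟨k, hk, e⟩ := hi
      rw [posIdx_iff hW.good h, simpleRoot_eq hW h,
        show h.rootPerm w (pRoot hW i) = pRoot hW ⟨k, hk⟩ from Fin.ext (by
          rw [show ((pRoot hW ⟨k, hk⟩ : Root D) : ℕ) = D.simple k from rfl, e]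
          simp [img, i.isLt])]
      exact pRoot_pos hW _)
    have : (⟨g, hmon⟩ : ↥(D.monomialSubgroup F)) ∈ (weylHom (F := F) hW h).ker := hw1
    rw [ker_weylHom] at this
    exact this
  · right
    intro i
    have hi := hn (img i) (List.mem_map.2 ⟨i, List.mem_range.2 i.isLt, rfl⟩)
    simp only [simples, List.mem_map, List.mem_range] at hi
    obtain ⟨k, hk, e⟩ := hi
    refine ⟨⟨k, hk⟩, Fin.ext ?_⟩
    simp only [img, i.isLt, dif_pos] at e
    rw [Fin.val_rev, show ((pRoot hW ⟨k, hk⟩ : Root D) : ℕ) = D.simple k from rfl]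
    have := (h.rootPerm w (pRoot hW i)).isLt
    have e' : D.simple k = D.nroots - 1 - (h.rootPerm w (pRoot hW i) : ℕ) := e
    omega

/-- A torus involution fixed by a subgroup of odd index lies in a piece of odd size. -/
theorem exists_piece {K Q : Subgroup (GL D.Idx F)} [Finite K] (hK : K ≤ C.monGroup hW F)
    (hQ : Odd (Q.relIndex K)) {y m : GL D.Idx F} (hy : y ∈ D.diagonalSubgroup F) (hy2 : y * y = 1)
    (hfix : ∀ q ∈ Q, Commute q y) (hm : m ∈ C.monGroup hW F) {pred : ℕ → Bool} {A : ℕ → ℕ → ℕ}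
    {ng : ℕ} {L : List Piece} (hok : Piece.coverOk (2 ^ D.rank) pred A ng L = true)
    (hgen : ∀ k < ng, ∃ g ∈ K, ∀ b < 2 ^ D.rank, A k b < 2 ^ D.rank ∧
      g * (m * C.tau F b * m⁻¹) * g⁻¹ = m * C.tau F (A k b) * m⁻¹)
    (hpred : ∀ b < 2 ^ D.rank, (∃ k ∈ K, k * y * k⁻¹ = m * C.tau F b * m⁻¹) → pred b = true) :
    ∃ B ∈ L, Odd B.elems.length ∧ B.head < 2 ^ D.rank ∧
      ∃ k ∈ K, k * y * k⁻¹ = m * C.tau F B.head * m⁻¹ := by
  classical
  set T := (Finset.range (2 ^ D.rank)).filter fun b =>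
    ∃ k ∈ K, k * y * k⁻¹ = m * C.tau F b * m⁻¹ with hT
  have hmemT : ∀ b, b ∈ T ↔ b < 2 ^ D.rank ∧ ∃ k ∈ K, k * y * k⁻¹ = m * C.tau F b * m⁻¹ :=
    fun b => by simp [hT]
  have hset : {z | ∃ k ∈ K, k * y * k⁻¹ = z} = (fun b => m * C.tau F b * m⁻¹) '' (T : Set ℕ) := by
    ext z
    constructor
    · rintro ⟨k, hk, rfl⟩
      have hd : m⁻¹ * (k * y * k⁻¹) * m ∈ D.diagonalSubgroup F := by
        have := conj_mem_diag hW (inv_mem (monGroup_le_monomial hm))
          (conj_mem_diag hW (monGroup_le_monomial (hK hk)) hy)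
        rwa [inv_inv] at this
      obtain ⟨b, hb, e⟩ := exists_eq_tInv hW S.ok.mask hd (by
        rw [show m⁻¹ * (k * y * k⁻¹) * m * (m⁻¹ * (k * y * k⁻¹) * m) =
          m⁻¹ * k * (y * y) * k⁻¹ * m by group, hy2]
        group)
      have e' : k * y * k⁻¹ = m * C.tau F b * m⁻¹ := by rw [tau, ← e]; group
      exact ⟨b, (hmemT b).2 ⟨hb, k, hk, e'⟩, e'.symm⟩
    · rintro ⟨b, hb, rfl⟩
      exact ((hmemT b).1 hb).2
  have hodd : Odd T.card := by
    have := odd_class hQ hfix
    rw [hset, Set.InjOn.ncard_image, Set.ncard_coe_finset] at this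
    · exact this
    intro a ha b hb e
    refine tInv_inj hW S.two S.ok.mask ((hmemT a).1 ha).1 ((hmemT b).1 hb).1 ?_
    have e2 := mul_left_cancel (mul_right_cancel (show m * C.tau F a * m⁻¹ = m * C.tau F b * m⁻¹
      from e))
    exact e2
  obtain ⟨B, hB, hBT, hlen⟩ := Piece.exists_odd hok T (fun b hb =>
    ⟨((hmemT b).1 hb).1, hpred b ((hmemT b).1 hb).1 ((hmemT b).1 hb).2⟩) hodd fun k hk b hb _ => by
      obtain ⟨g, hg, hgb⟩ := hgen k hk
      obtain ⟨hlt, e⟩ := hgb b hb
      rw [hmemT, hmemT]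
      constructor
      · rintro ⟨-, x, hx, ex⟩
        exact ⟨hlt, g * x, mul_mem hg hx, by rw [← e, ← ex]; group⟩
      · rintro ⟨-, x, hx, ex⟩
        refine ⟨hb, g⁻¹ * x, mul_mem (inv_mem hg) hx, ?_⟩
        rw [show g⁻¹ * x * y * (g⁻¹ * x)⁻¹ = g⁻¹ * (x * y * x⁻¹) * g by group, ex, ← e]
        group
  exact ⟨B, hB, hlen, ((hmemT _).1 hBT).1, ((hmemT _).1 hBT).2⟩

/-- A nontrivial torus involution fixed by the Sylow subgroup is conjugate to a good vector. -/
theorem exists_orbit [Finite F] (P : Sylow 2 ↥(C.monGroup hW F)) {x : GL D.Idx F} (hxG : x ∈ G)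
    (hx : x ∈ D.diagonalSubgroup F) (hx2 : x * x = 1) (hx1 : x ≠ 1)
    (hfix : ∀ q ∈ (P : Subgroup ↥(C.monGroup hW F)).map (C.monGroup hW F).subtype, Commute q x) :
    ∃ O ∈ C.orbits, ¬ Even O.piece.elems.length ∧ O.piece.head < 2 ^ D.rank ∧
      ∃ m ∈ C.monGroup hW F, x = m * C.tau F O.piece.head * m⁻¹ := by
  have hQ : Odd (((P : Subgroup ↥(C.monGroup hW F)).map (C.monGroup hW F).subtype).relIndex
      (C.monGroup hW F)) := by
    rw [Subgroup.relIndex, Subgroup.subgroupOf,
      Subgroup.comap_map_eq_self_of_injective (Subgroup.subtype_injective _)]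
    exact Nat.not_even_iff_odd.1 fun h => P.not_dvd_index h.two_dvd
  obtain ⟨B, hB, hodd, hlt, k, hk, e⟩ := exists_piece S (K := C.monGroup hW F) (m := 1) le_rfl hQ
    hx hx2 hfix (one_mem _) S.ok.top
    (fun o ho => ⟨_, nodeW_mem_monGroup ho, fun b hb => ⟨(act_spec S hb).1, by
      simpa using (act_spec S (o := o) hb).2⟩⟩)
    (fun b hb ⟨k, hk, e⟩ => by
      rw [one_mul, inv_one, mul_one] at e
      simp only [Bool.and_eq_true, bne_iff_ne]
      refine ⟨S.inv_of_mem b hb ?_ ?_, ?_⟩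
      · exact e ▸ conj_mem_diag hW (monGroup_le_monomial hk) hx
      · exact e ▸ mul_mem (mul_mem (monGroup_le S hk) hxG) (inv_mem (monGroup_le S hk))
      · rintro rfl
        rw [tau, tInv_zero, conj_eq_one_iff] at e
        exact hx1 e)
  obtain ⟨O, hO, rfl⟩ := List.mem_map.1 hB
  rw [one_mul, inv_one, mul_one] at e
  exact ⟨O, hO, Nat.not_even_iff_odd.2 hodd, hlt, k⁻¹, inv_mem hk, by rw [← e]; group⟩

/-- The marked vector of an odd piece is not bad. -/
theorem head_good {O : Orbit} (hO : O ∈ C.orbits) (hodd : ¬ Even O.piece.elems.length)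
    (hlt : O.piece.head < 2 ^ D.rank) :
    ∃ u : ↥G, (u : GL D.Idx F) = C.tau F O.piece.head ∧ ¬ Bad u := by
  have hok := S.ok.orbit
  rw [List.all_eq_true] at hok
  have := hok O hO
  simp only [orbitOk, Bool.or_eq_true, decide_eq_true_eq, hodd, false_or, Bool.and_eq_true,
    List.all_eq_true, beq_iff_eq] at this
  obtain ⟨⟨⟨⟨hwit, hsum⟩, -⟩, -⟩, -⟩ := this
  set u0 := O.piece.head
  have hcl : ∀ l : List ℕ, (∀ o ∈ l, o < C.nodes.length ∧ C.act o u0 = u0) →
      C.tau F (l.foldr (fun o x => C.hvec o ^^^ x) 0) ∈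
        Subgroup.closure {y | ∃ z ∈ G, Commute z (C.tau F u0) ∧ z * z = y} := by
    intro l hl
    induction l with
    | nil => simp only [List.foldr_nil, tau, tInv_zero]; exact one_mem _
    | cons o l ih =>
      rw [List.foldr_cons, show ∀ p q, C.tau F (p ^^^ q) = C.tau F p * C.tau F q from
        fun p q => (tInv_mul C.masks p q).symm]
      obtain ⟨ho, ha⟩ := hl o List.mem_cons_self
      refine mul_mem (Subgroup.subset_closure ⟨_, S.node_mem o ho, ?_, (hvec_spec S ho).2⟩)
        (ih fun p hp => hl p (List.mem_cons_of_mem _ hp))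
      have := (act_spec S (o := o) hlt).2
      rw [ha] at this
      exact mul_inv_eq_iff_eq_mul.1 this
  have hu := hcl O.wit hwit
  rw [hsum] at hu
  have hle : Subgroup.closure {y | ∃ z ∈ G, Commute z (C.tau F u0) ∧ z * z = y} ≤ G :=
    (Subgroup.closure_le _).2 fun y ⟨z, hz, _, e⟩ => e ▸ mul_mem hz hz
  refine ⟨⟨_, hle hu⟩, rfl, not_bad_of_mem ?_⟩
  have hle2 : Subgroup.closure {y | ∃ z ∈ G, Commute z (C.tau F u0) ∧ z * z = y} ≤
      (sqCent (⟨C.tau F u0, hle hu⟩ : ↥G)).map G.subtype :=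
    (Subgroup.closure_le _).2 fun y ⟨z, hz, hc, e⟩ =>
      ⟨⟨z, hz⟩ * ⟨z, hz⟩, sq_mem_sqCent (Subtype.ext hc.eq), e⟩
  obtain ⟨v, hv, e⟩ := hle2 hu
  rwa [show v = (⟨C.tau F u0, hle hu⟩ : ↥G) from Subtype.ext e] at hv

/-- **A group covered by a certificate has no bad triple.** -/
theorem noBadTriple [Finite F] {C0 : Weyl.Cert D.rank} {M : CoxeterMatrix (Fin D.rank)}
    {R : Weyl.RootTable} (h : Weyl.RootGood C0 M R) : NoBadTriple ↥G := by
  classical
  haveI : Fact (Nat.Prime 2) := ⟨Nat.prime_two⟩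
  obtain ⟨P⟩ : Nonempty (Sylow 2 ↥(C.monGroup hW F)) := inferInstance
  set Q := (P : Subgroup ↥(C.monGroup hW F)).map (C.monGroup hW F).subtype with hQdef
  have hQM : Q ≤ C.monGroup hW F := Subgroup.map_subtype_le _
  refine ⟨Q.subgroupOf G,
    (P.isPGroup'.map _).comap_of_injective G.subtype (Subgroup.subtype_injective G),
    fun a b c ha hb hc ha2 hb2 hc2 hab hac hbc nab nac nbc Ba Bb Bc => ?_⟩
  have hfix : ∀ x : ↥G, (∀ s ∈ Q.subgroupOf G, Commute s x) → ∀ q ∈ Q, Commute q (x : GL D.Idx F) :=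
    fun x hx q hq => congrArg Subtype.val (hx ⟨q, monGroup_le S (hQM hq)⟩ hq).eq
  have htQ : ∀ o < C.nodes.length, C.tau F (C.hvec o) ∈ Q := by
    intro o ho
    let E : Subgroup ↥(C.monGroup hW F) :=
      { carrier := {m | (m : GL D.Idx F) ∈ D.diagonalSubgroup F ∧ m * m = 1}
        one_mem' := ⟨one_mem _, mul_one 1⟩
        mul_mem' := fun {p q} hp hq => ⟨mul_mem hp.1 hq.1, by
          have hpq : Commute p q := Subtype.ext (diag_comm hW hp.1 hq.1)
          rw [hpq.symm.mul_mul_mul_comm, hp.2, hq.2, mul_one]⟩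
        inv_mem' := fun {p} hp => ⟨inv_mem hp.1, by rw [← mul_inv_rev, hp.2, inv_one]⟩ }
    haveI : E.Normal := ⟨fun p hp q => ⟨conj_mem_diag hW (monGroup_le_monomial q.2) hp.1, by
      rw [show q * p * q⁻¹ * (q * p * q⁻¹) = q * (p * p) * q⁻¹ by group, hp.2]
      group⟩⟩
    have hE : IsPGroup 2 E := fun p => ⟨1, Subtype.ext (by rw [pow_one, pow_two]; exact p.2.2)⟩
    have hle : E ≤ (P : Subgroup ↥(C.monGroup hW F)) := by
      have := P.3 (P.2.to_sup_of_normal_right hE) le_sup_left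
      exact this ▸ le_sup_right
    refine ⟨⟨C.tau F (C.hvec o), ?_⟩, hle ⟨hvec_mem_diag S ho, Subtype.ext tau_sq⟩, rfl⟩
    rw [← (hvec_spec S ho).2]
    exact mul_mem (nodeW_mem_monGroup ho) (nodeW_mem_monGroup ho)
  have hne : ∀ x : ↥G, Bad x → (∀ s ∈ Q.subgroupOf G, Commute s x) → x * x = 1 →
      (x : GL D.Idx F) ∉ D.diagonalSubgroup F := by
    intro x hB hxs hx2 hxd
    obtain ⟨O, hO, hodd, hlt, m, hm, e⟩ := exists_orbit S P x.2 hxd (congrArg Subtype.val hx2)
      (fun e => not_bad_one (G := ↥G) (by rwa [show x = 1 from Subtype.ext e] at hB)) (hfix x hxs)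
    obtain ⟨u, hu, hgood⟩ := head_good S hO hodd hlt
    refine hgood ?_
    have := hB.conj (⟨m, monGroup_le S hm⟩ : ↥G)⁻¹
    rwa [show (⟨m, monGroup_le S hm⟩ : ↥G)⁻¹ * x * (⟨m, monGroup_le S hm⟩ : ↥G)⁻¹⁻¹ = u from
      Subtype.ext (by
        show m⁻¹ * (x : GL D.Idx F) * m⁻¹⁻¹ = u
        rw [hu, e]; group)] at this
  have hneg : ∀ x : ↥G, Bad x → (∀ s ∈ Q.subgroupOf G, Commute s x) → x * x = 1 →
      ∃ hm : (x : GL D.Idx F) ∈ D.monomialSubgroup F, ∀ i : Fin D.rank, ∃ j : Fin D.rank,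
        h.rootPerm (weylHom hW h (⟨(x : GL D.Idx F), hm⟩ : ↥(D.monomialSubgroup F))) (pRoot hW i) = (pRoot hW j).rev := by
    intro x hB hxs hx2
    obtain ⟨hm, h1⟩ := weyl_sign S h x.2 fun o ho => hfix x hxs _ (htQ o ho)
    exact ⟨hm, h1.resolve_left (hne x hB hxs hx2)⟩
  have hprod : ∀ x y : ↥G, Bad x → Bad y → (∀ s ∈ Q.subgroupOf G, Commute s x) →
      (∀ s ∈ Q.subgroupOf G, Commute s y) → x * x = 1 → y * y = 1 →
      ((x * y : ↥G) : GL D.Idx F) ∈ D.diagonalSubgroup F := by
    intro x y hBx hBy hxs hys hx2 hy2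
    obtain ⟨hmx, hwx⟩ := hneg x hBx hxs hx2
    obtain ⟨hmy, hwy⟩ := hneg y hBy hys hy2
    have hw1 : weylHom hW h (⟨x, hmx⟩ * ⟨y, hmy⟩ : ↥(D.monomialSubgroup F)) = 1 := by
      refine h.eq_one_of_invSet_empty (h.invSet_eq_empty fun i => ?_)
      obtain ⟨j, hj⟩ := hwy i
      obtain ⟨k, hk⟩ := hwx j
      rw [posIdx_iff hW.good h, simpleRoot_eq hW h, map_mul, map_mul, Equiv.Perm.mul_apply, hj,
        rootPerm_rev hW h, hk, Fin.rev_rev]
      exact pRoot_pos hW _
    have : (⟨x, hmx⟩ * ⟨y, hmy⟩ : ↥(D.monomialSubgroup F)) ∈ (weylHom (F := F) hW h).ker := hw1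
    rw [ker_weylHom] at this
    exact this
  have hx := hprod a b Ba Bb ha hb ha2 hb2
  have hy := hprod a c Ba Bc ha hc ha2 hc2
  have hmk : ∀ {p q : ↥G}, p * p = 1 → q * q = 1 → Commute p q → p ≠ q →
      ((p * q : ↥G) : GL D.Idx F) * ((p * q : ↥G) : GL D.Idx F) = 1 ∧
        ((p * q : ↥G) : GL D.Idx F) ≠ 1 := by
    intro p q hp hq hpq hne'
    refine ⟨congrArg Subtype.val (show p * q * (p * q) = 1 by
      rw [hpq.symm.mul_mul_mul_comm, hp, hq, mul_one]), fun e => hne' ?_⟩
    have e' : p * q = 1 := Subtype.ext e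
    calc p = p * (q * q) := by rw [hq, mul_one]
      _ = q := by rw [← mul_assoc, e', one_mul]
  obtain ⟨hx2, hx1⟩ := hmk ha2 hb2 hab nab
  obtain ⟨hy2, hy1⟩ := hmk ha2 hc2 hac nac
  have hfx := hfix (a * b) fun s hs => (ha s hs).mul_right (hb s hs)
  have hfy := hfix (a * c) fun s hs => (ha s hs).mul_right (hc s hs)
  obtain ⟨O, hO, hodd, hlt, m, hm, e⟩ := exists_orbit S P (a * b).2 hx hx2 hx1 hfx
  have hok := S.ok.orbit
  rw [List.all_eq_true] at hok
  have hO' := hok O hO
  simp only [orbitOk, Bool.or_eq_true, decide_eq_true_eq, hodd, false_or, Bool.and_eq_true,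
    List.all_eq_true, beq_iff_eq] at hO'
  obtain ⟨⟨⟨-, hgens⟩, hcov⟩, hsub⟩ := hO'
  set x : GL D.Idx F := ((a * b : ↥G) : GL D.Idx F)
  set y : GL D.Idx F := ((a * c : ↥G) : GL D.Idx F)
  set K := C.monGroup hW F ⊓ Subgroup.centralizer {x} with hKdef
  have hQK : Q ≤ K := le_inf hQM fun q hq => Subgroup.mem_centralizer_singleton_iff.2 (hfx q hq).eq
  have hodd' : Odd (Q.relIndex K) := by
    have h0 : Odd (Q.relIndex (C.monGroup hW F)) := by
      rw [Subgroup.relIndex, hQdef, Subgroup.subgroupOf,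
        Subgroup.comap_map_eq_self_of_injective (Subgroup.subtype_injective _)]
      exact Nat.not_even_iff_odd.1 fun h => P.not_dvd_index h.two_dvd
    exact h0.of_dvd_nat ⟨_, (Subgroup.relIndex_mul_relIndex Q K _ hQK inf_le_left).symm⟩
  obtain ⟨B, hB, hlen, -, -⟩ := exists_piece S (K := K) (m := m) inf_le_left hodd' hy hy2 hfy hm
    hcov
    (fun k hk => by
      have hk' : O.gens.getD k [] ∈ O.gens := by
        rw [List.getD_eq_getElem _ _ hk]; exact List.getElem_mem hk
      obtain ⟨hwlt, hwfix⟩ := hgens _ hk'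
      set w := O.gens.getD k []
      have hw : (w.map (C.nodeW hW F)).prod ∈ C.monGroup hW F :=
        Subgroup.list_prod_mem _ fun z hz => by
          obtain ⟨o, ho, rfl⟩ := List.mem_map.1 hz
          exact nodeW_mem_monGroup (hwlt o ho)
      refine ⟨m * (w.map (C.nodeW hW F)).prod * m⁻¹, Subgroup.mem_inf.2
        ⟨mul_mem (mul_mem hm hw) (inv_mem hm), Subgroup.mem_centralizer_singleton_iff.2 ?_⟩, ?_⟩
      · have h3 := mul_inv_eq_iff_eq_mul.1 (actW_spec S (w := w) hlt).2
        rw [hwfix] at h3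
        generalize (w.map (C.nodeW hW F)).prod = n at h3 ⊢
        rw [e, show m * n * m⁻¹ * (m * C.tau F O.piece.head * m⁻¹) =
          m * (n * C.tau F O.piece.head) * m⁻¹ by group, h3]
        group
      · intro b hb
        refine ⟨(actW_spec S hb).1, ?_⟩
        rw [← (actW_spec S (w := w) hb).2]
        group)
    (fun b hb ⟨k, hk, ek⟩ => by
      simp only [Bool.and_eq_true, bne_iff_ne]
      have htau : C.tau F b = m⁻¹ * (k * y * k⁻¹) * m := by rw [ek]; group
      refine ⟨⟨S.inv_of_mem b hb ?_ ?_, ?_⟩, ?_⟩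
      · rw [htau]
        have := conj_mem_diag hW (inv_mem (monGroup_le_monomial hm))
          (conj_mem_diag hW (monGroup_le_monomial hk.1) hy)
        rwa [inv_inv] at this
      · rw [htau]
        exact mul_mem (mul_mem (inv_mem (monGroup_le S hm))
          (mul_mem (mul_mem (monGroup_le S hk.1) (a * c).2) (inv_mem (monGroup_le S hk.1))))
          (monGroup_le S hm)
      · rintro rfl
        rw [tau, tInv_zero, mul_one, mul_inv_cancel, conj_eq_one_iff] at ek
        exact hy1 ek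
      · rintro rfl
        rw [← e] at ek
        have hkx : k * x * k⁻¹ = x := by
          rw [Subgroup.mem_centralizer_singleton_iff.1 hk.2, mul_inv_cancel_right]
        have hyx : y = x := mul_left_cancel (mul_right_cancel (ek.trans hkx.symm))
        exact nbc (mul_left_cancel (Subtype.ext hyx)).symm)
  exact Nat.not_even_iff_odd.2 hlen (hsub B hB)

end ExcCert

end CfsgLib.TwoCentralDirect
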