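import Cfsg.Agent.TwoCentralDirect.ExcCert
import Cfsg.Prelude.Def_ChevD4

/-! The certificate of one exceptional type (generated data, checked by the kernel). -/

set_option autoImplicit false

namespace CfsgLib.TwoCentralDirect

open Cfsg.Lie

/-- The certificate. -/
def excTwD4 : ExcCert chevD4 where
  masks := [13, 15, 7, 11, 3, 1, 14, 6, 10, 2, 4, 8, 8, 4, 2, 10, 6, 14, 1, 3, 11, 7, 15, 13]
  nodes := [[⟨0, by decide⟩, ⟨2, by decide⟩, ⟨3, by decide⟩], [⟨1, by decide⟩]]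
  inv := fun b => (b.testBit 2 == b.testBit 0) && (b.testBit 3 == b.testBit 2) && (b.testBit 0 == b.testBit 3)
  sym := [0, 1, 6, 2, 7, 10, 3, 8, 4, 9, 11, 5, 18, 12, 14, 19, 15, 20, 13, 16, 21, 17, 22, 23]
  orbits := [⟨⟨2, [(15, 2, 1), (13, 15, 0)]⟩, [0], [[0]], [⟨13, [(15, 13, 0)]⟩]⟩]

theorem excTwD4_ok : excTwD4.Ok :=
  ⟨by decide +kernel, by decide +kernel, by decide +kernel, by decide +kernel, by decide +kernel⟩

end CfsgLib.TwoCentralDirect
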