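import Cfsg.Agent.TwoCentralDirect.ExcCert
import Cfsg.Prelude.Def_ChevE6

/-! The certificate of one exceptional type (generated data, checked by the kernel). -/

set_option autoImplicit false

namespace CfsgLib.TwoCentralDirect

open Cfsg.Lie

/-- The certificate. -/
def excTwE6 : ExcCert chevE6 where
  masks := [41, 43, 35, 51, 19, 39, 55, 23, 63, 31, 15, 61, 29, 13, 5, 1, 38, 54, 22, 62, 30, 14, 58, 26, 10, 2, 60, 28, 12, 4, 56, 24, 8, 48, 16, 32, 32, 16, 48, 8, 24, 56, 4, 12, 28, 60, 2, 10, 26, 58, 14, 30, 62, 22, 54, 38, 1, 5, 13, 29, 61, 15, 31, 63, 23, 55, 39, 19, 51, 35, 43, 41]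
  nodes := [[⟨0, by decide⟩, ⟨5, by decide⟩], [⟨2, by decide⟩, ⟨4, by decide⟩], [⟨3, by decide⟩], [⟨1, by decide⟩]]
  inv := fun b => (b.testBit 5 == b.testBit 0) && (b.testBit 4 == b.testBit 2) && (b.testBit 2 == b.testBit 4) && (b.testBit 0 == b.testBit 5)
  sym := [0, 1, 2, 5, 16, 3, 6, 17, 8, 19, 22, 11, 26, 30, 33, 35, 4, 7, 18, 9, 20, 23, 10, 21, 24, 25, 12, 27, 31, 34, 13, 28, 32, 14, 29, 15, 56, 42, 57, 39, 43, 58, 37, 40, 44, 59, 46, 47, 50, 61, 48, 51, 62, 53, 64, 67, 36, 38, 41, 45, 60, 49, 52, 63, 54, 65, 68, 55, 66, 69, 70, 71]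
  orbits := [⟨⟨2, [(10, 2, 3), (28, 10, 2), (61, 28, 1), (41, 61, 0), (43, 61, 2), (63, 41, 2), (35, 43, 3), (30, 63, 1), (55, 63, 3), (8, 30, 2), (22, 30, 3)]⟩, [], [], []⟩,
    ⟨⟨20, [(53, 20, 1), (33, 53, 0)]⟩, [0], [[0], [2], [3], [1, 2, 1]], [⟨2, [(10, 2, 2), (28, 10, 1), (61, 10, 3), (43, 28, 3), (41, 61, 0), (63, 43, 0), (35, 43, 2), (30, 41, 3), (55, 63, 2), (8, 63, 3), (22, 30, 2)]⟩, ⟨33, [(53, 33, 0)]⟩]⟩]

theorem excTwE6_ok : excTwE6.Ok :=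
  ⟨by decide +kernel, by decide +kernel, by decide +kernel, by decide +kernel, by decide +kernel⟩

end CfsgLib.TwoCentralDirect
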