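import Cfsg.Agent.TwoCentralDirect.ExcMain
import Cfsg.Agent.TwoCentralDirect.ExcG2
import Cfsg.Agent.TwoCentralDirect.ExcF4
import Cfsg.Agent.TwoCentralDirect.ExcE6
import Cfsg.Agent.TwoCentralDirect.ExcE7
import Cfsg.Agent.TwoCentralDirect.ExcE8
import Cfsg.Agent.TwoCentralDirect.ExcTwD4
import Cfsg.Agent.TwoCentralDirect.ExcTwE6
import Cfsg.Agent.Chevalley.Frames
import Cfsg.Agent.GraphTwist.FamilyE6
import Cfsg.Agent.GraphTwist.FamilyD4
import Cfsg.Prelude.Def_LieTypeChar

/-!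
# The exceptional families in odd characteristic
-/

set_option autoImplicit false

namespace CfsgLib.TwoCentralDirect

open Cfsg.Lie CfsgLib.Chevalley CfsgLib.ChevOddInvol CfsgLib.GraphTwist

namespace ExcCert

variable {D : ChevalleyDatum} {F : Type*} [Field F]

/-- An untwisted group. -/
theorem covers_group (hW : GoodWeyl D) (C : ExcCert D) (hok : C.Ok) (h2 : (2 : F) ≠ 0)
    (hn : C.nodes = (List.finRange D.rank).map fun i => [i]) (hi : ∀ b, C.inv b = true)
    (hs : C.sym = []) : C.Covers hW (D.group F) := by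
  have hnode : ∀ o < C.nodes.length, ∃ i : Fin D.rank, C.nodes.getD o [] = [i] := by
    intro o ho
    rw [List.getD_eq_getElem _ _ ho]
    simp only [hn, List.getElem_map]
    exact ⟨_, rfl⟩
  refine ⟨hok, h2, le_rfl, fun o ho => ?_, fun o ho => ?_, fun b _ _ _ => hi b,
    fun g _ π _ r s e => ?_⟩
  · obtain ⟨i, e⟩ := hnode o ho
    rw [nodeW, e]
    simpa using ChevOddInvol.nR_mem_group hW i
  · obtain ⟨i, e⟩ := hnode o ho
    rw [nodeW, e]
    simpa using nR_sq hW i
  · simp only [sigma, hs, List.getD_nil] at e ⊢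
    rw [Fin.ext e]

/-- A twisted group. -/
theorem covers_tG {τ : Setup D} (Φ : FieldTwist τ F) (C : ExcCert D) (hok : C.Ok)
    (h2 : (2 : F) ≠ 0)
    (hn : C.nodes.map (List.map Fin.val) = τ.cfg.nodes) (hm : C.nodes.length = τ.cfg.m)
    (hs : ∀ r < D.nroots, C.sigma r = τ.cfg.S.σf r)
    (hi : ∀ b < 2 ^ D.rank, (∀ j < D.rank, b.testBit (τ.cfg.S.πf j) = b.testBit j) →
      C.inv b = true) : C.Covers τ.good Φ.tG := by
  have hnode : ∀ (o : ℕ) (ho : o < C.nodes.length),
      C.nodes.getD o [] = τ.nlist ⟨o, hm ▸ ho⟩ := by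
    intro o ho
    refine List.map_injective_iff.2 Fin.val_injective ?_
    rw [τ.nlist_map_val, ← hn, List.getD_eq_getElem _ _ ho,
      List.getD_eq_getElem _ _ (by rwa [List.length_map]), List.getElem_map]
  refine ⟨hok, h2, Φ.tG_le_group, fun o ho => ?_, fun o ho => ?_, fun b hb hbd hbG => ?_,
    fun g hg π hπ r s e => ?_⟩
  · rw [nodeW, hnode o ho, ← Φ.nO_eq]
    exact Φ.nO_mem_tG _
  · rw [nodeW, hnode o ho, ← Φ.nO_eq, Φ.nO_sq, FieldTwist.oH, Setup.nlist,
      List.map_map]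
    refine congrArg List.prod (List.map_congr_left fun j _ => ?_)
    rw [FieldTwist.Ψ_pow_hT, τ.σR_pow_pRoot, Function.comp_apply]
    congr 1
    clear * -
    induction j with
    | zero => rfl
    | succ j ih =>
      rw [Function.iterate_succ_apply', ih]
      exact Units.ext (by simp [FieldTwist.coe_fU])
  · refine hi b hb fun j hj => ?_
    have hfix := Φ.mem_fix.1 (Φ.tG_le_fix hbG)
    have e := tInv_conj_X τ.good hbd (pRoot τ.good ⟨j, hj⟩) (1 : F)
    have h1 := congrArg Φ.Ψ e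
    rw [map_mul, map_mul, map_inv, hfix, Φ.Ψ_X, Φ.Ψ_X, tInv_conj_X τ.good hbd,
      τ.sgn_pRoot, τ.σR_pRoot] at h1
    simp only [Int.cast_one, one_mul, map_one, mul_one] at h1
    have h2' := X_injective τ.good.good _ h1
    rw [sgn_simple τ.good hok.mask, sgn_simple τ.good hok.mask] at h2'
    refine unitOf_injective h2 (Units.ext (h2'.trans ?_))
    show Φ.f ((unitOf F (b.testBit j) : Fˣ) : F) = _
    cases b.testBit j <;> simp [unitOf]
  · rw [hs r r.isLt] at e
    rw [hs _ (π r).isLt]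
    have := Φ.monBy_comm hπ (Φ.tG_le_fix hg) r
    rw [show τ.σR r = s from Fin.ext e] at this
    rw [this, τ.σR_val]

end ExcCert

variable {K : Type*} [Field K] [Finite K]

theorem noBadTriple_group {D : ChevalleyDatum}
    (hD : D ∈ [chevG2, chevB2, chevD4, chevF4, chevE6, chevE7, chevE8]) (h2 : (2 : K) ≠ 0)
    (C : ExcCert D) (hok : C.Ok)
    (hn : C.nodes = (List.finRange D.rank).map fun i => [i]) (hi : ∀ b, C.inv b = true)
    (hs : C.sym = []) : NoBadTriple ↥(D.group K) := by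
  obtain ⟨C0, M, R, h⟩ := exists_rootGood_of_mem hD
  exact ExcCert.noBadTriple (ExcCert.covers_group (goodWeyl_of_mem hD) C hok h2 hn hi hs) h

theorem noBadTriple_G2 (h2 : (2 : K) ≠ 0) : NoBadTriple ↥(chevG2.group K) :=
  noBadTriple_group (by simp) h2 excG2 excG2_ok (by decide +kernel) (fun _ => rfl) rfl

theorem noBadTriple_F4 (h2 : (2 : K) ≠ 0) : NoBadTriple ↥(chevF4.group K) :=
  noBadTriple_group (by simp) h2 excF4 excF4_ok (by decide +kernel) (fun _ => rfl) rfl

theorem noBadTriple_E6 (h2 : (2 : K) ≠ 0) : NoBadTriple ↥(chevE6.group K) :=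
  noBadTriple_group (by simp) h2 excE6 excE6_ok (by decide +kernel) (fun _ => rfl) rfl

theorem noBadTriple_E7 (h2 : (2 : K) ≠ 0) : NoBadTriple ↥(chevE7.group K) :=
  noBadTriple_group (by simp) h2 excE7 excE7_ok (by decide +kernel) (fun _ => rfl) rfl

theorem noBadTriple_E8 (h2 : (2 : K) ≠ 0) : NoBadTriple ↥(chevE8.group K) :=
  noBadTriple_group (by simp) h2 excE8 excE8_ok (by decide +kernel) (fun _ => rfl) rfl

theorem noBadTriple_twistedE6 [Fintype K] (h2 : (2 : K) ≠ 0) {q : ℕ} (hq : IsPrimePow q)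
    (hK : Fintype.card K = q ^ 2) : NoBadTriple ↥(twistedE6 K q) := by
  obtain ⟨Φ, e, -⟩ := twistedE6_eq_tG hq hK
  rw [e]
  refine ExcCert.noBadTriple (ExcCert.covers_tG Φ excTwE6 excTwE6_ok h2 (by decide +kernel)
    (by decide +kernel) (by decide +kernel) (by decide +kernel)) setupE6.rootGood

theorem noBadTriple_twistedD4 [Fintype K] (h2 : (2 : K) ≠ 0) {q : ℕ} (hq : IsPrimePow q)
    (hK : Fintype.card K = q ^ 3) : NoBadTriple ↥(twistedD4 K q) := by
  obtain ⟨Φ, e, -⟩ := twistedD4_eq_tG hq hK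
  rw [e]
  refine ExcCert.noBadTriple (ExcCert.covers_tG Φ excTwD4 excTwD4_ok h2 (by decide +kernel)
    (by decide +kernel) (by decide +kernel) (by decide +kernel)) setupD4.rootGood

omit [Finite K] in
theorem two_ne_zero_of_charP (p : ℕ) [CharP K p] (hp : p.Prime) (hp2 : p ≠ 2) : (2 : K) ≠ 0 := by
  rw [show (2 : K) = ((2 : ℕ) : K) from by norm_num, Ne, CharP.cast_eq_zero_iff K p]
  exact fun h => hp2 ((Nat.prime_dvd_prime_iff_eq hp Nat.prime_two).1 h)

end CfsgLib.TwoCentralDirect
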