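import Cfsg.Agent.TwoCentralDirect.Bad
import Cfsg.Agent.SylowTwoAb.OrthEquiv
import Cfsg.Agent.Spinor.Omega
import Cfsg.Agent.Forms4.OmegaSimple
import Cfsg.Agent.Forms4.POmegaOrders
import Mathlib.LinearAlgebra.Dimension.Constructions

/-!
# `PΩ(Q)` in dimension at least seven, odd characteristic, has no bad triple

For `Q ≅ diag(1, …, 1, d)` the even sign changes on the coordinates of weight one and the products of
two rotations of pairs generate a 2-subgroup of `Ω` whose centralizer consists of sign changes constant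
on the pairs; these are commutators in it.
-/

set_option autoImplicit false
set_option linter.unusedSectionVars false
set_option linter.unusedSimpArgs false

namespace CfsgLib.TwoCentralDirect

open Matrix CfsgLib.Spinor
open scoped commutatorElement

variable {F : Type} [Field F]

/-- Commutators of elements commuting with `x` are products of squares. -/
theorem commutator_mem_sqCent {G : Type*} [Group G] {x a b : G} (ha : Commute a x) (hb : Commute b x) :
    a * b * a⁻¹ * b⁻¹ ∈ sqCent x := by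
  rw [show a * b * a⁻¹ * b⁻¹ = a * a * (a⁻¹ * b * (a⁻¹ * b)) * (b⁻¹ * b⁻¹) by group]
  exact mul_mem (mul_mem (sq_mem_sqCent ha) (sq_mem_sqCent (ha.inv_left.mul_left hb)))
    (sq_mem_sqCent hb.inv_left)

section mon

variable {J : Type} [Fintype J] [DecidableEq J]

/-- The monomial matrix `v ↦ s x · v (π x)`. -/
def monMat (s : J → F) (π : Equiv.Perm J) : Matrix J J F :=
  Matrix.of fun x y => if π x = y then s x else 0

theorem monMat_mulVec (s : J → F) (π : Equiv.Perm J) (v : J → F) (x : J) :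
    (monMat s π *ᵥ v) x = s x * v (π x) := by
  simp [monMat, mulVec, dotProduct]

theorem monMat_mul (s t : J → F) (π σ : Equiv.Perm J) :
    monMat s π * monMat t σ = monMat (fun x => s x * t (π x)) (σ * π) := by
  ext x y
  rw [Matrix.mul_apply, Finset.sum_eq_single (π x) (fun j _ hj => by simp [monMat, Ne.symm hj])
    (by simp)]
  simp only [monMat, Matrix.of_apply, if_true]
  rw [mul_ite, mul_zero]
  exact if_congr Iff.rfl rfl rfl

theorem monMat_one : monMat (fun _ => (1 : F)) (1 : Equiv.Perm J) = 1 := by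
  ext x y
  rw [Matrix.one_apply]
  exact if_congr Iff.rfl rfl rfl

theorem monMat_entry {g : Matrix J J F} {s : J → F} {π : Equiv.Perm J} {r : F}
    (h : g * monMat s π = r • (monMat s π * g)) (a x : J) :
    g a x * s x = r * (s a * g (π a) (π x)) := by
  have := congrFun (congrFun h a) (π x)
  simpa [monMat, Matrix.mul_apply] using this

/-- Flip the pairs in `S`. -/
def flipPerm {m : ℕ} {ρ : Type} (S : Fin m → Bool) : Equiv.Perm ((Fin 2 × Fin m) ⊕ ρ) :=
  Function.Involutive.toPerm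
    (Sum.map (fun x : Fin 2 × Fin m => (if S x.2 then x.1 + 1 else x.1, x.2)) id) (by
      rintro (⟨i, p⟩ | r)
      · cases h : S p <;> fin_cases i <;> simp [h]
      · rfl)

@[simp]
theorem flipPerm_inl {m : ℕ} {ρ : Type} (S : Fin m → Bool) (i : Fin 2) (p : Fin m) :
    flipPerm (ρ := ρ) S (.inl (i, p)) = .inl (if S p then i + 1 else i, p) := rfl

@[simp]
theorem flipPerm_inr {m : ℕ} {ρ : Type} (S : Fin m → Bool) (r : ρ) :
    flipPerm S (.inr r) = (.inr r : (Fin 2 × Fin m) ⊕ ρ) := rfl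

theorem flipPerm_mul {m : ℕ} {ρ : Type} (S T : Fin m → Bool) :
    flipPerm (ρ := ρ) S * flipPerm T = flipPerm fun p => Bool.xor (S p) (T p) := by
  ext x
  rcases x with ⟨i, p⟩ | r
  · cases h : S p <;> cases h' : T p <;> fin_cases i <;> simp [h, h']
  · rfl

theorem flipPerm_false {m : ℕ} {ρ : Type} :
    flipPerm (ρ := ρ) (fun _ : Fin m => false) = 1 := by
  ext x
  rcases x with ⟨i, p⟩ | r <;> simp

end mon

section main

variable [Fintype F] {ι : Type} [Fintype ι] [DecidableEq ι] {m : ℕ} {ρ : Type} [Fintype ρ]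
  [DecidableEq ρ]

/-- Signed flips of pairs. -/
def IsMon (A : Matrix ((Fin 2 × Fin m) ⊕ ρ) ((Fin 2 × Fin m) ⊕ ρ) F) : Prop :=
  ∃ (s : ((Fin 2 × Fin m) ⊕ ρ) → F) (S : Fin m → Bool), (∀ x, s x * s x = 1) ∧ A = monMat s (flipPerm S)

theorem IsMon.mul {A B : Matrix ((Fin 2 × Fin m) ⊕ ρ) ((Fin 2 × Fin m) ⊕ ρ) F} (hA : IsMon A) (hB : IsMon B) : IsMon (A * B) := by
  obtain ⟨s, S, hs, rfl⟩ := hA
  obtain ⟨t, T, ht, rfl⟩ := hB
  exact ⟨fun x => s x * t (flipPerm S x), fun p => Bool.xor (T p) (S p),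
    fun x => by linear_combination (t (flipPerm S x) * t (flipPerm S x)) * hs x + ht (flipPerm S x),
    by rw [monMat_mul, flipPerm_mul]⟩

theorem IsMon.pow_four {A : Matrix ((Fin 2 × Fin m) ⊕ ρ) ((Fin 2 × Fin m) ⊕ ρ) F} (hA : IsMon A) : A ^ 4 = 1 := by
  obtain ⟨s, S, hs, rfl⟩ := hA
  rw [show (4 : ℕ) = 2 * 2 from rfl, pow_mul, pow_two (monMat s (flipPerm S)), monMat_mul,
    flipPerm_mul, show (fun p => Bool.xor (S p) (S p)) = fun _ => false from funext fun p => by simp,
    flipPerm_false, pow_two, monMat_mul, one_mul, ← monMat_one]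
  congr 1
  funext x
  simp only [Equiv.Perm.one_apply]
  linear_combination (s (flipPerm S x) * s (flipPerm S x)) * hs x + hs (flipPerm S x)

/-- The setting: `Q` diagonal in the coordinates of `L`. -/
structure DiagData (Q : QuadraticForm F (ι → F)) (w : ((Fin 2 × Fin m) ⊕ ρ) → F) where
  L : (((Fin 2 × Fin m) ⊕ ρ) → F) ≃ₗ[F] (ι → F)
  hL : ∀ v, Q (L v) = QuadraticMap.weightedSumSquares F w v
  w0 : ∀ x, w x ≠ 0
  w1 : ∀ i p, w (.inl (i, p)) = 1
  wsep : ∀ a b, a ≠ b → w a = 1 ∨ w b = 1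
  m3 : 3 ≤ m

variable {Q : QuadraticForm F (ι → F)} {w : ((Fin 2 × Fin m) ⊕ ρ) → F} (D : DiagData Q w)

/-- The matrix in the diagonal coordinates. -/
noncomputable def DiagData.toMat : ↥(Cfsg.Omega F ⇑Q) →* Matrix ((Fin 2 × Fin m) ⊕ ρ) ((Fin 2 × Fin m) ⊕ ρ) F :=
  (Units.coeHom _).comp ((SylowTwoAb.glConj D.L).comp
    ((Cfsg.isometryGroup F ⇑Q).subtype.comp (Cfsg.Omega F ⇑Q).subtype))

theorem DiagData.toMat_injective : Function.Injective D.toMat := by
  intro a b h
  have h' : SylowTwoAb.glConj D.L a.1.1 = SylowTwoAb.glConj D.L b.1.1 := Units.ext h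
  refine Subtype.ext (Subtype.ext (Units.ext (Matrix.ext_iff_mulVec.2 fun v => ?_)))
  have h2 := congrArg (fun M : GL ((Fin 2 × Fin m) ⊕ ρ) F => (M : Matrix ((Fin 2 × Fin m) ⊕ ρ) ((Fin 2 × Fin m) ⊕ ρ) F) *ᵥ D.L.symm v) h'
  simp only [SylowTwoAb.glConj_mulVec, LinearEquiv.apply_symm_apply] at h2
  exact D.L.symm.injective h2

theorem DiagData.quad (g : ↥(Cfsg.Omega F ⇑Q)) (v : ((Fin 2 × Fin m) ⊕ ρ) → F) :
    QuadraticMap.weightedSumSquares F w (D.toMat g *ᵥ v) =
      QuadraticMap.weightedSumSquares F w v := by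
  show QuadraticMap.weightedSumSquares F w
    ((SylowTwoAb.glConj D.L g.1.1 : Matrix ((Fin 2 × Fin m) ⊕ ρ) ((Fin 2 × Fin m) ⊕ ρ) F) *ᵥ v) = _
  rw [SylowTwoAb.glConj_mulVec, ← D.hL, ← D.hL, LinearEquiv.apply_symm_apply]
  exact quad_mulVec Q g.1 _

theorem DiagData.det_eq_one (g : ↥(Cfsg.Omega F ⇑Q)) : (D.toMat g).det = 1 := by
  let φ : ↥(Cfsg.isometryGroup F ⇑Q) →* Fˣ :=
    Matrix.GeneralLinearGroup.det.comp ((SylowTwoAb.glConj D.L).comp (Cfsg.isometryGroup F ⇑Q).subtype)
  have h : g.1 ∈ φ.ker := Abelianization.commutator_subset_ker φ g.2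
  exact congrArg Units.val (MonoidHom.mem_ker.1 h)

theorem DiagData.monIso_aux {s : ((Fin 2 × Fin m) ⊕ ρ) → F} {π : Equiv.Perm ((Fin 2 × Fin m) ⊕ ρ)} (hs : ∀ x, s x * s x = 1)
    (hπ : ∀ x, w (π x) = w x) (v : ((Fin 2 × Fin m) ⊕ ρ) → F) :
    QuadraticMap.weightedSumSquares F w (monMat s π *ᵥ v) =
      QuadraticMap.weightedSumSquares F w v := by
  rw [QuadraticMap.weightedSumSquares_apply, QuadraticMap.weightedSumSquares_apply,
    ← Equiv.sum_comp π fun x => w x • (v x * v x)]
  refine Finset.sum_congr rfl fun x _ => ?_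
  rw [monMat_mulVec, hπ, smul_eq_mul, smul_eq_mul]
  linear_combination (w x * (v (π x) * v (π x))) * hs x

/-- A monomial isometry. -/
noncomputable def DiagData.monIso (s : ((Fin 2 × Fin m) ⊕ ρ) → F) (π : Equiv.Perm ((Fin 2 × Fin m) ⊕ ρ)) (hs : ∀ x, s x * s x = 1)
    (hπ : ∀ x, w (π x) = w x) : ↥(Cfsg.isometryGroup F ⇑Q) :=
  (SylowTwoAb.isoCongr D.L D.hL).symm
    ⟨⟨monMat s π, monMat (fun x => s (π.symm x)) π.symm,
      by rw [monMat_mul, ← monMat_one]
         congr 1
         · funext x; simp [hs]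
         · ext x; simp,
      by rw [monMat_mul, ← monMat_one]
         congr 1
         · funext x; simp [hs]
         · ext x; simp⟩,
      fun v _ => DiagData.monIso_aux hs hπ v⟩

theorem DiagData.mat_monIso (s : ((Fin 2 × Fin m) ⊕ ρ) → F) (π : Equiv.Perm ((Fin 2 × Fin m) ⊕ ρ)) (hs : ∀ x, s x * s x = 1)
    (hπ : ∀ x, w (π x) = w x) :
    ((SylowTwoAb.glConj D.L (D.monIso s π hs hπ).1 : GL ((Fin 2 × Fin m) ⊕ ρ) F) : Matrix ((Fin 2 × Fin m) ⊕ ρ) ((Fin 2 × Fin m) ⊕ ρ) F) = monMat s π :=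
  congrArg (fun g : ↥(Cfsg.isometryGroup F ⇑(QuadraticMap.weightedSumSquares F w)) =>
    (g.1 : Matrix ((Fin 2 × Fin m) ⊕ ρ) ((Fin 2 × Fin m) ⊕ ρ) F)) ((SylowTwoAb.isoCongr D.L D.hL).apply_symm_apply _)

/-- Elements of `Ω` with given matrices, as commutators of monomial isometries. -/
theorem DiagData.exists_omega {s t c : ((Fin 2 × Fin m) ⊕ ρ) → F} {π σ τ : Equiv.Perm ((Fin 2 × Fin m) ⊕ ρ)}
    (hs : ∀ x, s x * s x = 1) (hπ : ∀ x, w (π x) = w x) (ht : ∀ x, t x * t x = 1)
    (hσ : ∀ x, w (σ x) = w x) (hc : ∀ x, c x * c x = 1) (hτ : ∀ x, w (τ x) = w x)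
    (hperm : σ * π = π * σ * τ)
    (hsign : ∀ x, s x * t (π x) = c x * (t (τ x) * s (σ (τ x)))) :
    ∃ g : ↥(Cfsg.Omega F ⇑Q), D.toMat g = monMat c τ := by
  set A := D.monIso s π hs hπ
  set B := D.monIso t σ ht hσ
  set C := D.monIso c τ hc hτ
  have hinj : ∀ P R : ↥(Cfsg.isometryGroup F ⇑Q),
      ((SylowTwoAb.glConj D.L P.1 : GL ((Fin 2 × Fin m) ⊕ ρ) F) : Matrix ((Fin 2 × Fin m) ⊕ ρ) ((Fin 2 × Fin m) ⊕ ρ) F) =
        ((SylowTwoAb.glConj D.L R.1 : GL ((Fin 2 × Fin m) ⊕ ρ) F) : Matrix ((Fin 2 × Fin m) ⊕ ρ) ((Fin 2 × Fin m) ⊕ ρ) F) → P = R := fun P R h =>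
    (SylowTwoAb.isoCongr D.L D.hL).injective (Subtype.ext (Units.ext h))
  have e : A * B = C * (B * A) := by
    apply hinj
    simp only [Subgroup.coe_mul, map_mul, Units.val_mul, A, B, C, D.mat_monIso, monMat_mul]
    rw [hperm]
    congr 1
    funext x
    exact hsign x
  refine ⟨⟨C, ?_⟩, D.mat_monIso c τ hc hτ⟩
  have hC : C = ⁅A, B⁆ := by rw [commutatorElement_def, e]; group
  rw [hC]
  exact Subgroup.commutator_mem_commutator trivial trivial

/-- `-1` at `x` and `y`. -/
def dvec (x y : ((Fin 2 × Fin m) ⊕ ρ)) : ((Fin 2 × Fin m) ⊕ ρ) → F := fun z => if z = x ∨ z = y then -1 else 1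

theorem dvec_sq (x y z : ((Fin 2 × Fin m) ⊕ ρ)) : dvec (F := F) x y z * dvec x y z = 1 := by
  unfold dvec; split_ifs <;> ring

theorem DiagData.exists_dpair {x y : ((Fin 2 × Fin m) ⊕ ρ)} (hxy : x ≠ y) (hw : w x = w y) :
    ∃ g : ↥(Cfsg.Omega F ⇑Q), D.toMat g = monMat (dvec x y) 1 := by
  refine D.exists_omega (s := fun z => if z = x then -1 else 1) (π := 1) (t := fun _ => 1)
    (σ := Equiv.swap x y) (fun z => by split_ifs <;> ring) (fun _ => rfl) (fun _ => by ring)
    (fun z => ?_) (dvec_sq x y) (fun _ => rfl) (by simp) (fun z => ?_)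
  · rw [Equiv.swap_apply_def]; split_ifs with h1 h2
    · rw [h1, hw]
    · rw [h2, hw]
    · rfl
  · simp only [dvec, Equiv.Perm.one_apply, Equiv.swap_apply_def]
    split_ifs <;> simp_all

/-- Signs of `R_p R_q⁻¹`. -/
def xvec (p q : Fin m) : ((Fin 2 × Fin m) ⊕ ρ) → F := fun z =>
  if z = .inl (1, p) ∨ z = .inl (0, q) then -1 else 1

/-- Swap the pairs `p`, `q`. -/
def pairSwap (p q : Fin m) : Equiv.Perm ((Fin 2 × Fin m) ⊕ ρ) :=
  Equiv.sumCongr (Equiv.prodCongr (Equiv.refl (Fin 2)) (Equiv.swap p q)) (Equiv.refl ρ)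

include D in
theorem DiagData.w_flip (S : Fin m → Bool) (x : ((Fin 2 × Fin m) ⊕ ρ)) : w (flipPerm S x) = w x := by
  rcases x with ⟨i, p⟩ | r
  · simp [D.w1]
  · rfl

theorem DiagData.exists_rot {p q : Fin m} (hpq : p ≠ q) :
    ∃ g : ↥(Cfsg.Omega F ⇑Q),
      D.toMat g = monMat (xvec p q) (flipPerm fun r => decide (r = p ∨ r = q)) := by
  refine D.exists_omega (s := fun z => if z = .inl (1, p) then -1 else 1)
    (π := flipPerm fun r => decide (r = p)) (t := fun _ => 1) (σ := pairSwap p q)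
    (fun z => by split_ifs <;> ring) (D.w_flip _) (fun _ => by ring)
    (fun z => ?_) (fun z => by unfold xvec; split_ifs <;> ring) (D.w_flip _) ?_ ?_
  · rcases z with ⟨i, r⟩ | r <;> simp [pairSwap, D.w1]
  · ext z
    rcases z with ⟨i, r⟩ | r
    · by_cases h1 : r = p
      · subst h1; fin_cases i <;> simp [pairSwap, hpq, hpq.symm]
      · by_cases h2 : r = q
        · subst h2; fin_cases i <;> simp [pairSwap, hpq, hpq.symm]
        · fin_cases i <;> simp [pairSwap, h1, h2, Equiv.swap_apply_of_ne_of_ne]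
    · rfl
  · intro z
    rcases z with ⟨i, r⟩ | r
    · by_cases h1 : r = p
      · subst h1; fin_cases i <;> simp [pairSwap, xvec, hpq, hpq.symm]
      · by_cases h2 : r = q
        · subst h2; fin_cases i <;> simp [pairSwap, xvec, hpq, hpq.symm]
        · fin_cases i <;>
            simp [pairSwap, xvec, h1, h2, Equiv.swap_apply_of_ne_of_ne]
    · simp [pairSwap, xvec]

include D in
theorem DiagData.exists_three_off (i j : ((Fin 2 × Fin m) ⊕ ρ)) :
    ∃ f : Fin 3 → ((Fin 2 × Fin m) ⊕ ρ), Function.Injective f ∧ ∀ k, f k ≠ i ∧ f k ≠ j ∧ w (f k) = 1 := by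
  have hc : 3 ≤ (Finset.univ.image (Sum.inl : Fin 2 × Fin m → ((Fin 2 × Fin m) ⊕ ρ)) \ {i, j}).card := by
    refine le_trans ?_ (Finset.le_card_sdiff _ _)
    rw [Finset.card_image_of_injective _ Sum.inl_injective, Finset.card_univ]
    have h2 := Finset.card_le_two (a := i) (b := j)
    simp
    have := D.m3
    omega
  obtain ⟨t, ht, htc⟩ := Finset.exists_subset_card_eq hc
  refine ⟨fun k => ((t.equivFinOfCardEq htc).symm k).1,
    Subtype.val_injective.comp (t.equivFinOfCardEq htc).symm.injective, fun k => ?_⟩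
  have h := ht ((t.equivFinOfCardEq htc).symm k).2
  simp only [Finset.mem_sdiff, Finset.mem_image, Finset.mem_univ, true_and, Finset.mem_insert,
    Finset.mem_singleton, not_or] at h
  obtain ⟨⟨⟨a, p⟩, e⟩, h1, h2⟩ := h
  exact ⟨h1, h2, (congrArg w e.symm).trans (D.w1 a p)⟩

include D in
/-- An element commuting up to sign with `-1` at `i, j` preserves the eigenspaces. -/
theorem DiagData.dpair_entries (h2 : (2 : F) ≠ 0) {g : Matrix ((Fin 2 × Fin m) ⊕ ρ) ((Fin 2 × Fin m) ⊕ ρ) F} (hg : g.det = 1) {i j : ((Fin 2 × Fin m) ⊕ ρ)}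
    {r : F} (hr : r * r = 1) (h : g * monMat (dvec i j) 1 = r • (monMat (dvec i j) 1 * g))
    {a x : ((Fin 2 × Fin m) ⊕ ρ)} (hax : (a = i ∨ a = j) ↔ ¬ (x = i ∨ x = j)) : g a x = 0 := by
  have he : ∀ a x, g a x * dvec i j x = r * (dvec i j a * g a x) := fun a x => by
    simpa using monMat_entry h a x
  have hr1 : r = 1 := by
    refine (mul_self_eq_one_iff.1 hr).resolve_right fun hr' => ?_
    obtain ⟨f, hf, hfo⟩ := D.exists_three_off i j
    let Φ : (Fin 3 → F) →ₗ[F] (Fin 2 → F) :=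
      { toFun := fun c k => ∑ l, c l * g (if k = 0 then i else j) (f l)
        map_add' := fun c d => by funext k; simp [add_mul, Finset.sum_add_distrib]
        map_smul' := fun t c => by funext k; simp [Finset.mul_sum, mul_assoc] }
    have hΦ : Function.Injective Φ := by
      rw [← LinearMap.ker_eq_bot, LinearMap.ker_eq_bot']
      intro c hc
      have hinj := Matrix.mulVec_injective_iff_isUnit.2
        ((Matrix.isUnit_iff_isUnit_det g).2 (by rw [hg]; exact isUnit_one))
      have hz : g *ᵥ (∑ l, c l • Pi.single (f l) 1) = 0 := by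
        rw [mulVec_sum]
        funext a
        simp only [mulVec_smul, mulVec_single_one, Finset.sum_apply, Pi.smul_apply, smul_eq_mul,
          Matrix.col_apply, Pi.zero_apply]
        by_cases ha : a = i ∨ a = j
        · rcases ha with rfl | rfl
          · simpa [Φ] using congrFun hc 0
          · simpa [Φ] using congrFun hc 1
        · refine Finset.sum_eq_zero fun l _ => ?_
          have := he a (f l)
          rw [hr', show dvec i j (f l) = (1 : F) from if_neg (by simp [hfo l]),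
            show dvec i j a = (1 : F) from if_neg ha] at this
          have h0 : g a (f l) = 0 := mul_left_cancel₀ h2 (by linear_combination this)
          rw [h0, mul_zero]
      have hv := hinj (hz.trans (mulVec_zero g).symm)
      funext l
      have := congrFun hv (f l)
      simpa [Finset.sum_apply, Pi.single_apply, hf.eq_iff] using this
    have := LinearMap.finrank_le_finrank_of_injective hΦ
    simp at this
  have := he a x
  rw [hr1, one_mul] at this
  by_cases ha : a = i ∨ a = j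
  · rw [show dvec i j x = (1 : F) from if_neg (hax.1 ha),
      show dvec i j a = (-1 : F) from if_pos ha] at this
    exact mul_left_cancel₀ h2 (by linear_combination this)
  · rw [show dvec i j x = (-1 : F) from if_pos (by tauto),
      show dvec i j a = (1 : F) from if_neg ha] at this
    exact mul_left_cancel₀ h2 (by linear_combination -this)

theorem dvec_mul_sep {p q r : Fin m} (hpq : p ≠ q) (hpr : p ≠ r) (hqr : q ≠ r) :
    monMat (dvec (F := F) (.inl (0, p) : ((Fin 2 × Fin m) ⊕ ρ)) (.inl (0, q))) 1 *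
        monMat (xvec p r) (flipPerm fun u => decide (u = p ∨ u = r)) =
      monMat (dvec (.inl (0, p)) (.inl (1, p))) 1 *
        (monMat (xvec p r) (flipPerm fun u => decide (u = p ∨ u = r)) *
          monMat (dvec (.inl (0, p)) (.inl (0, q))) 1) := by
  rw [monMat_mul, monMat_mul, monMat_mul]
  congr 1
  funext z
  rcases z with ⟨i, u⟩ | u
  · by_cases h1 : u = p
    · subst h1; fin_cases i <;> simp [dvec, xvec, hpq, hpr, hqr.symm, hpq.symm]
    · by_cases h2 : u = r
      · subst h2; fin_cases i <;> simp [dvec, xvec, hpq, hqr, hpr, hqr.symm, hpr.symm, h1]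
      · fin_cases i <;> simp [dvec, xvec, h1, h2]
  · simp [dvec, xvec]

/-- `PΩ(Q)` has no bad triple. -/
theorem DiagData.noBadTriple (h2 : (2 : F) ≠ 0) (hQ : (QuadraticMap.polarBilin Q).Nondegenerate)
    (hn : 5 ≤ Fintype.card ι) (P : CfsgLib.Forms4.TwoPairs Q)
    (hρ : ∀ g : ↥(Cfsg.Omega F ⇑Q), ∀ c : ((Fin 2 × Fin m) ⊕ ρ) → F, D.toMat g = monMat c 1 →
      (∀ x, c x * c x = 1) → (∀ i p, c (.inl (i, p)) = 1) → ∀ r, c (.inr r) = 1) :
    NoBadTriple (Cfsg.POmega F ⇑Q) := by
  classical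
  set π' := QuotientGroup.mk' (Subgroup.center ↥(Cfsg.Omega F ⇑Q))
  let K : Subgroup ↥(Cfsg.Omega F ⇑Q) :=
    { carrier := {g | IsMon (D.toMat g)}
      one_mem' := ⟨fun _ => 1, fun _ => false, fun _ => one_mul 1, by
        rw [map_one, flipPerm_false, monMat_one]⟩
      mul_mem' := fun {a b} ha hb => by
        show IsMon (D.toMat (a * b))
        rw [map_mul]; exact ha.mul hb
      inv_mem' := fun {a} ha => by
        have h4 : a ^ 4 = 1 := D.toMat_injective (by rw [map_pow, map_one]; exact ha.pow_four)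
        have : a⁻¹ = a * a * a := inv_eq_of_mul_eq_one_left (by
          rw [← h4]; simp only [pow_succ, pow_zero, one_mul, mul_assoc])
        show IsMon (D.toMat a⁻¹)
        rw [this, map_mul, map_mul]
        exact (IsMon.mul ha ha).mul ha }
  have hK : IsPGroup 2 (K.map π') := by
    rintro ⟨_, g, hg, rfl⟩
    refine ⟨2, Subtype.ext ?_⟩
    show π' g ^ (2 ^ 2) = 1
    rw [← map_pow, show g ^ (2 ^ 2) = 1 from D.toMat_injective (by
      rw [map_pow, map_one]; exact IsMon.pow_four hg), map_one]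
  refine noBadTriple_of_forall _ hK fun a ha _ => ?_
  obtain ⟨g, rfl⟩ := QuotientGroup.mk'_surjective _ a
  set M := D.toMat g with hM
  have hdet : M.det = 1 := D.det_eq_one g
  have hcomm : ∀ (x : ↥(Cfsg.Omega F ⇑Q)) {s : ((Fin 2 × Fin m) ⊕ ρ) → F} {S : Fin m → Bool},
      (∀ z, s z * s z = 1) → D.toMat x = monMat s (flipPerm S) →
      Commute (π' x) (π' g) ∧ ∃ r : F, r * r = 1 ∧
        M * monMat s (flipPerm S) = r • (monMat s (flipPerm S) * M) := by
    intro x s S hs hx
    have hc : Commute (π' x) (π' g) := ha _ ⟨x, ⟨s, S, hs, hx⟩, rfl⟩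
    refine ⟨hc, ?_⟩
    have h : π' (x * g) = π' (g * x) := by rw [map_mul, map_mul]; exact hc.eq
    obtain ⟨r, hr, e⟩ := (CfsgLib.Forms4.TwoPairs.mem_center_omega_iff hQ hn P _).1 (QuotientGroup.eq.1 h)
    refine ⟨r, hr, ?_⟩
    have e' : D.toMat ((x * g)⁻¹ * (g * x)) = r • 1 := by
      refine Matrix.ext_iff_mulVec.2 fun v => ?_
      show (SylowTwoAb.glConj D.L _ : Matrix ((Fin 2 × Fin m) ⊕ ρ) ((Fin 2 × Fin m) ⊕ ρ) F) *ᵥ v = _
      rw [SylowTwoAb.glConj_mulVec, smul_mulVec, one_mulVec]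
      show D.L.symm (mat Q ((x * g)⁻¹ * (g * x)).1 *ᵥ D.L v) = _
      rw [e, smul_mulVec, one_mulVec, map_smul, LinearEquiv.symm_apply_apply]
    rw [← hx, hM, ← map_mul, ← map_mul, show g * x = x * g * ((x * g)⁻¹ * (g * x)) by group,
      map_mul _ (x * g), e', Matrix.mul_smul, mul_one]
  -- `M` is diagonal
  have hdiag : ∀ a b, a ≠ b → M a b = 0 := by
    intro a b hab
    rcases D.wsep a b hab with hwa | hwb
    · obtain ⟨f, -, hf⟩ := D.exists_three_off a b
      obtain ⟨d, hd⟩ := D.exists_dpair (Ne.symm (hf 0).1) (by rw [hwa, (hf 0).2.2])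
      obtain ⟨-, r, hr, e⟩ := hcomm d (S := fun _ => false) (dvec_sq _ _) (by rw [flipPerm_false]; exact hd)
      rw [flipPerm_false] at e
      exact D.dpair_entries h2 hdet hr e (iff_of_true (Or.inl rfl)
        (by simp [Ne.symm hab, Ne.symm (hf 0).2.1]))
    · obtain ⟨f, -, hf⟩ := D.exists_three_off a b
      obtain ⟨d, hd⟩ := D.exists_dpair (Ne.symm (hf 0).2.1) (by rw [hwb, (hf 0).2.2])
      obtain ⟨-, r, hr, e⟩ := hcomm d (S := fun _ => false) (dvec_sq _ _) (by rw [flipPerm_false]; exact hd)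
      rw [flipPerm_false] at e
      exact D.dpair_entries h2 hdet hr e (iff_of_false (by simp [hab, Ne.symm (hf 0).1])
        (by simp))
  set c : ((Fin 2 × Fin m) ⊕ ρ) → F := fun x => M x x with hc
  have hMc : M = monMat c 1 := by
    ext a b
    by_cases h : a = b
    · subst h; simp [monMat, hc]
    · rw [hdiag a b h]; simp [monMat, h]
  have hc2 : ∀ x, c x * c x = 1 := by
    intro x
    have h := D.quad g (Pi.single x 1)
    rw [← hM, hMc, QuadraticMap.weightedSumSquares_apply, QuadraticMap.weightedSumSquares_apply,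
      Finset.sum_eq_single x (fun y _ hy => by simp [monMat_mulVec, hy]) (by simp),
      Finset.sum_eq_single x (fun y _ hy => by simp [hy]) (by simp)] at h
    simp [monMat_mulVec] at h
    exact mul_left_cancel₀ (D.w0 x) (by linear_combination h)
  have hpair : ∀ p, c (.inl (0, p)) = c (.inl (1, p)) := by
    intro p
    obtain ⟨q, hq⟩ : ∃ q, q ≠ p := by
      have : Nontrivial (Fin m) := Fin.nontrivial_iff_two_le.2 (by have := D.m3; omega)
      exact exists_ne p
    obtain ⟨x, hx⟩ := D.exists_rot (Ne.symm hq)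
    obtain ⟨-, r, -, e⟩ := hcomm x (fun z => by unfold xvec; split_ifs <;> ring) hx
    obtain ⟨u, hu1, hu2⟩ : ∃ u, u ≠ p ∧ u ≠ q := by
      obtain ⟨u, hu⟩ := Finset.card_pos.1 (show 0 < ({p, q} : Finset (Fin m))ᶜ.card by
        rw [Finset.card_compl, Fintype.card_fin]
        have := Finset.card_le_two (a := p) (b := q)
        have := D.m3
        omega)
      simp only [Finset.mem_compl, Finset.mem_insert, Finset.mem_singleton, not_or] at hu
      exact ⟨u, hu⟩
    have eu := monMat_entry e (.inl (0, u)) (.inl (0, u))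
    have ep := monMat_entry e (.inl (0, p)) (.inl (0, p))
    simp [hMc, monMat, xvec, hu1, hu2, Ne.symm hq] at eu ep
    have hc0 : c (.inl (0, u)) ≠ 0 := fun h => by simpa [h] using hc2 (.inl (0, u))
    have hr1 : r = 1 := mul_right_cancel₀ hc0 (by rw [one_mul]; exact eu.symm)
    rw [hr1, one_mul] at ep
    exact ep
  have hpairD : ∀ p : Fin m, ∃ y : ↥(Cfsg.Omega F ⇑Q),
      D.toMat y = monMat (dvec (.inl (0, p)) (.inl (1, p))) 1 ∧ π' y ∈ sqCent (π' g) := by
    intro p
    obtain ⟨q, hq, r, hr, hqr⟩ := Finset.one_lt_card.1 (show 1 < ({p} : Finset (Fin m))ᶜ.card by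
      rw [Finset.card_compl, Fintype.card_fin, Finset.card_singleton]
      have := D.m3
      omega)
    simp only [Finset.mem_compl, Finset.mem_singleton] at hq hr
    obtain ⟨A, hA⟩ := D.exists_dpair (show (.inl (0, p) : ((Fin 2 × Fin m) ⊕ ρ)) ≠ .inl (0, q) by simp [Ne.symm hq])
      (by rw [D.w1, D.w1])
    obtain ⟨B, hB⟩ := D.exists_rot (Ne.symm hr)
    obtain ⟨C, hC⟩ := D.exists_dpair (show (.inl (0, p) : ((Fin 2 × Fin m) ⊕ ρ)) ≠ .inl (1, p) by simp)
      (by rw [D.w1, D.w1])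
    refine ⟨C, hC, ?_⟩
    have e : A * B = C * (B * A) := D.toMat_injective (by
      rw [map_mul, map_mul, map_mul, hA, hB, hC]
      exact dvec_mul_sep (Ne.symm hq) (Ne.symm hr) hqr)
    have hCe : C = A * B * A⁻¹ * B⁻¹ := by rw [e]; group
    rw [hCe, map_mul, map_mul, map_mul, map_inv, map_inv]
    exact commutator_mem_sqCent
      (hcomm A (S := fun _ => false) (dvec_sq _ _) (by rw [flipPerm_false]; exact hA)).1
      (hcomm B (fun z => by unfold xvec; split_ifs <;> ring) hB).1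
  have hprod : ∀ S : Finset (Fin m), ∃ y : ↥(Cfsg.Omega F ⇑Q),
      D.toMat y = monMat (Sum.elim (fun x => if x.2 ∈ S then -1 else 1) fun _ => 1) 1 ∧
        π' y ∈ sqCent (π' g) := by
    intro S
    induction S using Finset.induction with
    | empty =>
      refine ⟨1, ?_, by rw [map_one]; exact one_mem _⟩
      rw [map_one, ← monMat_one]
      congr 1
      funext z
      rcases z with z | z <;> simp
    | insert p S hp ih =>
      obtain ⟨y, hy, hy'⟩ := ih
      obtain ⟨z, hz, hz'⟩ := hpairD p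
      refine ⟨z * y, ?_, by rw [map_mul]; exact mul_mem hz' hy'⟩
      rw [map_mul, hz, hy, monMat_mul, one_mul]
      congr 1
      funext u
      rcases u with ⟨i, u⟩ | u
      · by_cases h : u = p
        · subst h; fin_cases i <;> simp [dvec, hp]
        · simp [dvec, h]
      · simp [dvec]
  obtain ⟨y, hy, hy'⟩ := hprod (Finset.univ.filter fun p => c (.inl (0, p)) ≠ 1)
  have hgy : g * y = 1 := by
    apply D.toMat_injective
    have e1 : D.toMat (g * y) = monMat (fun x => c x *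
        Sum.elim (fun x => if x.2 ∈ Finset.univ.filter (fun p => c (.inl (0, p)) ≠ 1) then -1 else 1)
          (fun _ => 1) x) 1 := by
      rw [map_mul, ← hM, hy, hMc, monMat_mul, one_mul]; rfl
    have hinl : ∀ i p, c (.inl (i, p)) * (if p ∈ Finset.univ.filter (fun p => c (.inl (0, p)) ≠ 1)
        then -1 else 1) = 1 := by
      intro i p
      have h0 : c (.inl (i, p)) = c (.inl (0, p)) := by
        fin_cases i
        · rfl
        · exact (hpair p).symm
      rw [h0]
      rcases mul_self_eq_one_iff.1 (hc2 (.inl (0, p))) with h | h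
      · simp [h]
      · have : (-1 : F) ≠ 1 := fun e => h2 (by linear_combination -e)
        simp [h, this]
    have hr := hρ (g * y) _ e1 (fun x => by
      rcases x with ⟨i, p⟩ | r
      · show c (.inl (i, p)) * _ * (c (.inl (i, p)) * _) = 1
        rw [Sum.elim_inl, hinl, one_mul]
      · simpa using hc2 (.inr r)) (fun i p => hinl i p)
    rw [e1, map_one, ← monMat_one]
    congr 1
    funext x
    rcases x with ⟨i, p⟩ | r
    · exact hinl i p
    · exact hr r
  refine not_bad_of_mem ?_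
  have : π' g = (π' y)⁻¹ := eq_inv_of_mul_eq_one_left (by rw [← map_mul, hgy, map_one])
  exact this ▸ (this ▸ inv_mem hy' : (π' y)⁻¹ ∈ sqCent ((π' y)⁻¹))

end main

end CfsgLib.TwoCentralDirect
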