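import Cfsg.Agent.TwoCentralDirect.Orth
import Cfsg.Agent.SylowTwoAb.OrthVal

/-!
# The standard orthogonal forms
-/

set_option autoImplicit false
set_option linter.unusedSectionVars false
set_option linter.unusedSimpArgs false

namespace CfsgLib.TwoCentralDirect

open Matrix CfsgLib.Spinor CfsgLib.StdForms

variable {F : Type} [Field F] [Fintype F] {ι : Type} [Fintype ι] [DecidableEq ι]
  {m : ℕ} {ρ : Type} [Fintype ρ] [DecidableEq ρ]
  {Q : QuadraticForm F (ι → F)} {w : (Fin 2 × Fin m) ⊕ ρ → F} (D : DiagData Q w)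

include D in
/-- Two sign changes of weights `1` and a non-square are not in `Ω`. -/
theorem DiagData.two_signs_notMem (h2 : (2 : F) ≠ 0) (hQ : (QuadraticMap.polarBilin Q).Nondegenerate)
    {x y : (Fin 2 × Fin m) ⊕ ρ} (hxy : x ≠ y) (hns : ¬ IsSquare (w x * w y))
    (g : ↥(Cfsg.Omega F ⇑Q)) : D.toMat g ≠ monMat (dvec x y) 1 := by
  intro hg
  set u : (Fin 2 × Fin m) ⊕ ρ → ι → F := fun z => D.L (Pi.single z 1) with hu
  have hQu : ∀ z, Q (u z) = w z := fun z => by
    rw [hu, D.hL, QuadraticMap.weightedSumSquares_apply,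
      Finset.sum_eq_single z (fun a _ ha => by simp [ha]) (by simp)]
    simp
  have hne : ∀ z, Q (u z) ≠ 0 := fun z => by rw [hQu]; exact D.w0 z
  have hrefl : ∀ z v, refl Q (u z) (D.L v) = D.L (fun a => if a = z then -v a else v a) := by
    intro z v
    rw [refl_apply, hQu]
    have hp : QuadraticMap.polar (⇑Q) (u z) (D.L v) = 2 * w z * v z := by
      simp only [QuadraticMap.polar, hu, ← map_add, D.hL, QuadraticMap.weightedSumSquares_apply,
        smul_eq_mul, ← Finset.sum_sub_distrib]
      rw [Finset.sum_eq_single z (fun a _ ha => by simp [ha]) (by simp)]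
      simp
      ring
    rw [hp, hu, ← map_smul, ← map_sub]
    congr 1
    funext a
    have h0 := D.w0 z
    by_cases ha : a = z
    · subst ha; simp; field_simp; ring
    · simp [ha]
  have hprod : IsReflProd Q g.1 [u x, u y] := by
    refine ⟨fun v hv => ?_, Matrix.ext_iff_mulVec.2 fun v => ?_⟩
    · simp only [List.mem_cons, List.not_mem_nil, or_false] at hv
      rcases hv with rfl | rfl <;> exact hne _
    · obtain ⟨v, rfl⟩ := D.L.surjective v
      simp only [List.map_cons, List.map_nil, List.prod_cons, List.prod_nil, mul_one]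
      rw [← mulVec_mulVec, reflectionMatrix_mulVec, reflectionMatrix_mulVec, hrefl, hrefl]
      apply D.L.symm.injective
      rw [LinearEquiv.symm_apply_apply, ← SylowTwoAb.glConj_mulVec]
      show D.toMat g *ᵥ v = _
      rw [hg]
      funext a
      rw [monMat_mulVec, dvec, Equiv.Perm.one_apply]
      by_cases h1 : a = x <;> by_cases h2' : a = y <;> simp [h1, h2', hxy, Ne.symm hxy]
  have h := (Spinor.even_and_isSquare_of_mem_omega hQ (exists_isReflProd h2 hQ) g.2 hprod).2
  simp only [List.map_cons, List.map_nil, List.prod_cons, List.prod_nil, mul_one, hQu] at h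
  exact hns h

omit D in
theorem noBadTriple_of_dim (h2 : (2 : F) ≠ 0) (hQ : (QuadraticMap.polarBilin Q).Nondegenerate)
    (hn : 7 ≤ Fintype.card ι) (P : CfsgLib.Forms4.TwoPairs Q) :
    NoBadTriple (Cfsg.POmega F ⇑Q) := by
  classical
  set n := Fintype.card ι with hn'
  set d := (FormDiscr.gram Q).det * 2 ^ n with hd
  have hd0 : d ≠ 0 := mul_ne_zero (FormDiscr.gram_det_ne_zero Q hQ) (pow_ne_zero _ h2)
  -- a diagonal model with the discriminant of `Q`
  have mk : ∀ {k : ℕ} {σ : Type} [Fintype σ] [DecidableEq σ] (v : (Fin 2 × Fin k) ⊕ σ → F),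
      Fintype.card ((Fin 2 × Fin k) ⊕ σ) = n → (∀ x, v x ≠ 0) → (∀ i p, v (.inl (i, p)) = 1) →
      (∀ a b, a ≠ b → v a = 1 ∨ v b = 1) → 3 ≤ k → IsSquare (d * ∏ x, v x) →
      Nonempty (DiagData Q v) := by
    intro k σ _ _ v hc h0 h1 hsep h3 hsq
    obtain ⟨L, hL⟩ := SylowTwoAb.exists_equiv_of_disc h2 hQ
      (R := QuadraticMap.weightedSumSquares F v) (SylowTwoAb.diag_nondegenerate h2 h0) hc.symm (by
        rw [FormDiscr.gram_det_diag, hc, ← mul_assoc]; exact hsq)
    exact ⟨⟨L, hL, h0, h1, hsep, h3⟩⟩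
  rcases Nat.even_or_odd n with ⟨k, hk⟩ | ⟨k, hk⟩
  · by_cases hsq : IsSquare d
    · obtain ⟨E⟩ := mk (k := k) (σ := Fin 0) (fun _ => 1) (by simp; omega) (fun _ => one_ne_zero)
        (fun _ _ => rfl) (fun _ _ _ => Or.inl rfl) (by omega) (by simpa using hsq)
      exact E.noBadTriple h2 hQ (by omega) P fun _ _ _ _ _ r => r.elim0
    · obtain ⟨E⟩ := mk (k := k - 1) (σ := Fin 2) (Sum.elim (fun _ => 1) ![1, d]) (by simp; omega)
        (by rintro (x | x)
            · exact one_ne_zero
            · fin_cases x <;> simp [hd0])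
        (fun _ _ => rfl)
        (by rintro (a | a) (b | b) hab
            · exact Or.inl rfl
            · exact Or.inl rfl
            · exact Or.inr rfl
            · fin_cases a <;> fin_cases b <;> simp_all)
        (by omega) (by simp [Fintype.prod_sum_type])
      refine E.noBadTriple h2 hQ (by omega) P fun g c hgc hc2 hc1 => ?_
      have hdet := E.det_eq_one g
      have hdiag : monMat c 1 = Matrix.diagonal c := by
        ext a b; by_cases h : a = b <;> simp [monMat, h]
      rw [hgc, hdiag, Matrix.det_diagonal, Fintype.prod_sum_type,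
        Finset.prod_eq_one (fun x _ => hc1 x.1 x.2), one_mul, Fin.prod_univ_two] at hdet
      rcases mul_self_eq_one_iff.1 (hc2 (.inr 0)) with h | h
      · intro r
        fin_cases r
        · exact h
        · simpa [h] using hdet
      · exfalso
        refine E.two_signs_notMem h2 hQ (x := .inr 0) (y := .inr 1) (by simp)
          (by simpa using hsq) g ?_
        rw [hgc]
        congr 1
        funext z
        rcases z with ⟨i, p⟩ | r
        · simp [dvec, hc1]
        · fin_cases r
          · simpa [dvec] using h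
          · rw [h] at hdet
            simp [dvec]
            linear_combination -hdet
  · obtain ⟨E⟩ := mk (k := k) (σ := Fin 1) (Sum.elim (fun _ => 1) fun _ => d) (by simp; omega)
      (by rintro (x | x)
          · exact one_ne_zero
          · exact hd0)
      (fun _ _ => rfl)
      (by rintro (a | a) (b | b) hab
          · exact Or.inl rfl
          · exact Or.inl rfl
          · exact Or.inr rfl
          · exact absurd (congrArg Sum.inr (Subsingleton.elim a b)) hab)
      (by omega) ⟨d, by simp [Fintype.prod_sum_type]⟩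
    refine E.noBadTriple h2 hQ (by omega) P fun g c hgc hc2 hc1 r => ?_
    have hdet := E.det_eq_one g
    have hdiag : monMat c 1 = Matrix.diagonal c := by
      ext a b; by_cases h : a = b <;> simp [monMat, h]
    rw [hgc, hdiag, Matrix.det_diagonal, Fintype.prod_sum_type,
      Finset.prod_eq_one (fun x _ => hc1 x.1 x.2), one_mul, Fin.prod_univ_one] at hdet
    rwa [Subsingleton.elim r 0]

omit ι m ρ Q w D

theorem noBadTriple_POmegaPlus (h2 : (2 : F) ≠ 0) {m : ℕ} (hm : 4 ≤ m) :
    NoBadTriple (Cfsg.POmega F (Cfsg.quadFormPlus m F)) := by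
  rw [← coe_plusQ]
  exact noBadTriple_of_dim h2 (plusQ_nondegenerate m) (by simp; omega)
    (CfsgLib.Forms4.plusPairs m (by omega))

theorem noBadTriple_POmegaOdd (h2 : (2 : F) ≠ 0) {m : ℕ} (hm : 3 ≤ m) :
    NoBadTriple (Cfsg.POmega F (Cfsg.quadFormOdd m F)) := by
  rw [← coe_oddQ]
  exact noBadTriple_of_dim h2 (oddQ_nondegenerate h2 m) (by simp; omega)
    (CfsgLib.Forms4.oddPairs m (by omega))

theorem noBadTriple_POmegaMinus (h2 : (2 : F) ≠ 0) {k : ℕ} (hk : 3 ≤ k) (a b : F)
    (hab : ∀ z₁ z₂ : F, z₁ ^ 2 + a * z₁ * z₂ + b * z₂ ^ 2 = 0 → z₁ = 0 ∧ z₂ = 0) :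
    NoBadTriple (Cfsg.POmega F (Cfsg.quadFormMinus k F a b)) := by
  rw [← coe_minusQ]
  exact noBadTriple_of_dim h2 (minusQ_nondegenerate k (disc_ne_zero_of_anisotropic h2 hab))
    (by simp; omega) (CfsgLib.Forms4.minusPairs k (by omega) a b)

end CfsgLib.TwoCentralDirect
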