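import Cfsg.Agent.TwoCentralDirect.Bad
import Mathlib.LinearAlgebra.Matrix.ProjectiveSpecialLinearGroup
import Mathlib.NumberTheory.LegendreSymbol.QuadraticChar.GaussSum
import Mathlib.GroupTheory.SpecificGroups.Alternating

/-!
# `PSL₂(q)`, `q ≡ ±1 (mod 8)`, and `A_n`, `n ≥ 6`: no involution is bad
-/

set_option autoImplicit false
set_option linter.unusedSimpArgs false

namespace CfsgLib.TwoCentralDirect

open Matrix

/-- In `PSL₂(q)` with `2` a square every involution is a square. -/
theorem noBadTriple_PSL_two {F : Type*} [Field F] [Fintype F] (h2 : (2 : F) ≠ 0)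
    (h8 : Fintype.card F % 8 = 1 ∨ Fintype.card F % 8 = 7) :
    NoBadTriple (Matrix.ProjectiveSpecialLinearGroup (Fin 2) F) := by
  classical
  obtain ⟨s, hs⟩ : IsSquare (2 : F) := FiniteField.isSquare_two_iff.2 (by omega)
  have hs0 : s ≠ 0 := fun h => h2 (by rw [hs, h, mul_zero])
  refine noBadTriple_of_not_bad fun z hz => ?_
  obtain ⟨g, rfl⟩ := QuotientGroup.mk'_surjective _ z
  have hgc : g * g ∈ Subgroup.center (Matrix.SpecialLinearGroup (Fin 2) F) := by
    rwa [← QuotientGroup.eq_one_iff, QuotientGroup.mk_mul]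
  obtain ⟨r, hr2, hr⟩ := Matrix.SpecialLinearGroup.mem_center_iff.1 hgc
  by_cases hgz : g ∈ Subgroup.center (Matrix.SpecialLinearGroup (Fin 2) F)
  · rw [show QuotientGroup.mk' (Subgroup.center _) g = 1 from (QuotientGroup.eq_one_iff g).2 hgz]
    exact not_bad_one
  have hsq : g.1 * g.1 = r • 1 := by
    rw [← Matrix.SpecialLinearGroup.coe_mul, ← hr, smul_one_eq_diagonal]; rfl
  have hdet := g.2
  rw [det_fin_two] at hdet
  have h00 : g.1 0 0 * g.1 0 0 + g.1 0 1 * g.1 1 0 = r := by
    simpa [Matrix.mul_apply, Fin.sum_univ_two] using congrFun (congrFun hsq 0) 0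
  have h11 : g.1 1 0 * g.1 0 1 + g.1 1 1 * g.1 1 1 = r := by
    simpa [Matrix.mul_apply, Fin.sum_univ_two] using congrFun (congrFun hsq 1) 1
  have h01 : g.1 0 0 * g.1 0 1 + g.1 0 1 * g.1 1 1 = 0 := by
    simpa [Matrix.mul_apply, Fin.sum_univ_two] using congrFun (congrFun hsq 0) 1
  have h10 : g.1 1 0 * g.1 0 0 + g.1 1 1 * g.1 1 0 = 0 := by
    simpa [Matrix.mul_apply, Fin.sum_univ_two] using congrFun (congrFun hsq 1) 0
  have htr : g.1 0 0 + g.1 1 1 = 0 := by
    by_contra htr
    refine hgz (Matrix.SpecialLinearGroup.mem_center_iff.2 ?_)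
    have hb : g.1 0 1 = 0 := mul_left_cancel₀ htr (by linear_combination h01)
    have hc : g.1 1 0 = 0 := mul_left_cancel₀ htr (by linear_combination h10)
    have had : g.1 0 0 = g.1 1 1 := by
      refine mul_left_cancel₀ htr ?_
      linear_combination h00 - h11
    refine ⟨g.1 0 0, ?_, ?_⟩
    · rw [Fintype.card_fin, pow_two]; linear_combination hdet + g.1 0 0 * had + g.1 1 0 * hb
    · ext i j; fin_cases i <;> fin_cases j <;> simp [hb, hc, had]
  let y : Matrix.SpecialLinearGroup (Fin 2) F :=
    ⟨s⁻¹ • (1 + g.1), by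
      rw [det_fin_two]
      simp only [Matrix.smul_apply, Matrix.add_apply, smul_eq_mul]
      simp
      field_simp
      linear_combination hdet + htr + hs⟩
  refine not_bad_of_sq (y := QuotientGroup.mk' _ y) ?_
  rw [← map_mul]
  refine congrArg _ (Subtype.ext ?_)
  show s⁻¹ • (1 + g.1) * (s⁻¹ • (1 + g.1)) = g.1
  have hr1 : r = -1 := by linear_combination -h00 + g.1 0 0 * htr - hdet
  rw [Matrix.smul_mul, Matrix.mul_smul, smul_smul, add_mul, one_mul, mul_add, mul_one, hsq, hr1,
    neg_one_smul, show (1 : Matrix (Fin 2) (Fin 2) F) + g.1 + (g.1 + -1) = (2 : F) • g.1 by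
      rw [two_smul]; abel, smul_smul, ← mul_inv, ← hs, inv_mul_cancel₀ h2, one_smul]

open Equiv

/-- `x ↔ y`, `z ↔ w` is a square of an element of the centraliser. -/
theorem swap_swap_mem_sqCent {α : Type*} [Fintype α] [DecidableEq α] {f : alternatingGroup α}
    {x z u v : α} (hxz : x ≠ z) (hxfz : x ≠ f.1 z) (hx : f.1 x ≠ x) (hz : f.1 z ≠ z)
    (hff : f.1 * f.1 = 1) (huv : u ≠ v) (hu : u ∉ ({x, f.1 x, z, f.1 z} : Finset α))
    (hv : v ∉ ({x, f.1 x, z, f.1 z} : Finset α))
    (hcomm : f.1 * swap u v = swap u v * f.1) :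
    ∀ p : alternatingGroup α, p.1 = swap x (f.1 x) * swap z (f.1 z) → p ∈ sqCent f := by
  intro p hp
  have hff' : ∀ a, f.1 (f.1 a) = a := fun a => by rw [← Perm.mul_apply, hff, Perm.one_apply]
  set y := f.1 x with hy
  set w := f.1 z with hw
  have hyz : y ≠ z := fun e => hxfz (by rw [hw, ← e, hy, hff'])
  have hyw : y ≠ w := fun e => hxz (f.1.injective e)
  set c : Perm α := swap x z * swap z y * swap y w with hc
  have hcx : ∀ a, c a = if a = x then z else if a = z then y else if a = y then w
      else if a = w then x else a := by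
    intro a
    simp only [hc, Perm.mul_apply, swap_apply_def]
    grind
  have hcc : c * c = swap x y * swap z w := by
    ext a
    simp only [Perm.mul_apply, hcx, swap_apply_def]
    grind
  have hcf : c * f.1 = f.1 * c := by
    ext a
    simp only [Perm.mul_apply, hcx]
    have h1 := hff' a
    have h2 := hff' x
    have h3 := hff' z
    grind
  simp only [Finset.mem_insert, Finset.mem_singleton, not_or] at hu hv
  have hcs : c * swap u v = swap u v * c := by
    ext a
    simp only [Perm.mul_apply, hcx, swap_apply_def]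
    grind
  let s : alternatingGroup α := ⟨c * swap u v, by
    rw [Perm.mem_alternatingGroup]
    simp [hc, Perm.sign_swap hxz, Perm.sign_swap hyz.symm, Perm.sign_swap hyw, Perm.sign_swap huv]⟩
  have hs : Commute s f := Subtype.ext (by
    show c * swap u v * f.1 = f.1 * (c * swap u v)
    rw [mul_assoc, ← hcomm, ← mul_assoc, hcf, mul_assoc])
  have : s * s = p := Subtype.ext (by
    show c * swap u v * (c * swap u v) = p.1
    rw [hp, ← hcc, mul_assoc, ← mul_assoc (swap u v), ← hcs, mul_assoc c (swap u v),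
      swap_mul_self, mul_one])
  exact this ▸ sq_mem_sqCent hs

/-- In `A_n`, `n ≥ 6`, every involution is in the squares of its centraliser. -/
theorem noBadTriple_alternating {α : Type*} [Fintype α] [DecidableEq α]
    (hn : 6 ≤ Fintype.card α) : NoBadTriple (alternatingGroup α) := by
  refine noBadTriple_of_not_bad fun f hf => not_bad_of_mem ?_
  have hff : f.1 * f.1 = 1 := congrArg Subtype.val hf
  have hff' : ∀ a, f.1 (f.1 a) = a := fun a => by rw [← Perm.mul_apply, hff, Perm.one_apply]
  suffices H : ∀ k, ∀ g : alternatingGroup α, g.1.support.card ≤ k → g.1 * g.1 = 1 →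
      (∀ a, g.1 a = a ∨ g.1 a = f.1 a) → g ∈ sqCent f from
    H _ f le_rfl hff fun a => Or.inr rfl
  intro k
  induction k using Nat.strong_induction_on with
  | _ k ih =>
    intro g hk hgg hsub
    by_cases h1 : g = 1
    · rw [h1]; exact one_mem _
    have hgg' : ∀ a, g.1 (g.1 a) = a := fun a => by rw [← Perm.mul_apply, hgg, Perm.one_apply]
    obtain ⟨x, hx⟩ : ∃ x, g.1 x ≠ x := by
      by_contra! h
      exact h1 (Subtype.ext (Equiv.ext h))
    obtain ⟨z, hz, hzx, hzy⟩ : ∃ z, g.1 z ≠ z ∧ z ≠ x ∧ z ≠ g.1 x := by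
      by_contra! h
      have hg : g.1 = swap x (g.1 x) := by
        ext a
        rw [swap_apply_def]
        grind
      have hs := g.2
      rw [Perm.mem_alternatingGroup, hg, Perm.sign_swap (Ne.symm hx)] at hs
      exact absurd hs (by decide)
    have ex : f.1 x = g.1 x := ((hsub x).resolve_left hx).symm
    have ez : f.1 z = g.1 z := ((hsub z).resolve_left hz).symm
    have hx' : f.1 x ≠ x := by rw [ex]; exact hx
    have hz' : f.1 z ≠ z := by rw [ez]; exact hz
    have hxfz : x ≠ f.1 z := fun e => hzy (by rw [← ex, e, hff'])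
    set P : Finset α := {x, f.1 x, z, f.1 z} with hP
    have hPc : P.card ≤ 4 := Finset.card_le_four
    obtain ⟨u, v, hu, hv, huv, hcomm⟩ :
        ∃ u v, u ∉ P ∧ v ∉ P ∧ u ≠ v ∧ f.1 * swap u v = swap u v * f.1 := by
      by_cases hmoved : ∃ u, u ∉ P ∧ f.1 u ≠ u
      · obtain ⟨u, hu, hfu⟩ := hmoved
        refine ⟨u, f.1 u, hu, ?_, Ne.symm hfu, ?_⟩
        · simp only [hP, Finset.mem_insert, Finset.mem_singleton, not_or] at hu ⊢
          refine ⟨fun e => hu.2.1 ?_, fun e => hu.1 (f.1.injective e), fun e => hu.2.2.2 ?_,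
            fun e => hu.2.2.1 (f.1.injective e)⟩ <;> rw [← hff' u, e]
        · rw [← mul_inv_eq_iff_eq_mul, ← Equiv.swap_apply_apply, hff', swap_comm]
      · push Not at hmoved
        obtain ⟨u, hu, v, hv, huv⟩ := Finset.one_lt_card.1 (show 1 < Pᶜ.card by
          rw [Finset.card_compl]; omega)
        rw [Finset.mem_compl] at hu hv
        refine ⟨u, v, hu, hv, huv, ?_⟩
        rw [← mul_inv_eq_iff_eq_mul, ← Equiv.swap_apply_apply, hmoved u hu, hmoved v hv]
    let p : alternatingGroup α := ⟨swap x (f.1 x) * swap z (f.1 z), by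
      simp [Perm.mem_alternatingGroup, Perm.sign_swap hx'.symm, Perm.sign_swap hz'.symm]⟩
    have hpmem : p ∈ sqCent f :=
      swap_swap_mem_sqCent (Ne.symm hzx) hxfz hx' hz' hff huv hu hv hcomm p rfl
    have hval : ∀ a, (p * g).1 a = if a ∈ P then a else g.1 a := by
      intro a
      show swap x (f.1 x) (swap z (f.1 z) (g.1 a)) = _
      simp only [hP, Finset.mem_insert, Finset.mem_singleton, swap_apply_def]
      have h1 := hgg' a
      have h2 := hgg' x
      have h3 := hgg' z
      grind
    have hrest : p * g ∈ sqCent f := by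
      refine ih (p * g).1.support.card (lt_of_lt_of_le (Finset.card_lt_card ?_) hk) _ le_rfl ?_ ?_
      · refine (Finset.ssubset_iff_of_subset fun a ha => ?_).2 ⟨x, ?_, ?_⟩
        · rw [Perm.mem_support, hval] at ha
          rw [Perm.mem_support]
          split_ifs at ha <;> simp_all
        · simpa [Perm.mem_support] using hx
        · rw [Perm.mem_support, not_not, hval, if_pos (by simp [hP])]
      · ext a
        rw [Perm.mul_apply, Perm.one_apply, hval, hval]
        have h1 := hgg' a
        have h2 := hgg' x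
        have h3 := hgg' z
        simp only [hP, Finset.mem_insert, Finset.mem_singleton]
        grind
      · intro a
        rw [hval]
        split_ifs
        · exact Or.inl rfl
        · exact hsub a
    have hpp : p⁻¹ * (p * g) = g := inv_mul_cancel_left p g
    exact hpp ▸ mul_mem (inv_mem hpmem) hrest

end CfsgLib.TwoCentralDirect
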